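import Cfsg.Agent.Lib.AutPSL.Roots

/-!
Monomial elements, transvections, rank one subgroups and the Bruhat decomposition of `SL_n`.
-/

set_option autoImplicit false
set_option linter.unusedSectionVars false

open Matrix

namespace Cfsg.Agent.SimpleFacts.SLBlocks

open Cfsg.Agent.AutPSL.Roots

universe u

variable {F : Type u} [Field F] {n : ℕ}

local notation "SL" => Matrix.SpecialLinearGroup (Fin n) F
local notation "M" => Matrix (Fin n) (Fin n) F
local notation "U" => (unitriSL (n := n) (F := F))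
local notation "tr" => Matrix.SpecialLinearGroup.transvection

theorem mem_U {g : SL} : g ∈ U ↔
    (∀ i j : Fin n, j < i → (g : M) i j = 0) ∧ ∀ i, (g : M) i i = 1 := Iff.rfl

/-- `m` has its non-zero entries at the places `(π j, j)`. -/
def IsMono (m : SL) (π : Equiv.Perm (Fin n)) : Prop := ∀ i j, i ≠ π j → (m : M) i j = 0

/-- The non-zero entry of column `j`. -/
def ent (m : SL) (π : Equiv.Perm (Fin n)) (j : Fin n) : F := (m : M) (π j) j

variable {m m' : Matrix.SpecialLinearGroup (Fin n) F} {π π' : Equiv.Perm (Fin n)}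

theorem IsMono.apply (h : IsMono m π) (i j : Fin n) :
    (m : M) i j = if i = π j then ent m π j else 0 := by
  by_cases e : i = π j
  · rw [if_pos e, ent, e]
  · rw [if_neg e, h i j e]

theorem IsMono.ent_ne (h : IsMono m π) (j : Fin n) : ent m π j ≠ 0 := by
  intro e
  have hz : (m : M).det = 0 := Matrix.det_eq_zero_of_column_eq_zero j fun i => by
    rw [h.apply]; split_ifs <;> [exact e; rfl]
  rw [m.prop] at hz
  exact one_ne_zero hz

theorem IsMono.mul_apply (h : IsMono m π) (z : SL) (a b : Fin n) :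
    ((m * z : SL) : M) (π a) b = ent m π a * (z : M) a b := by
  rw [Matrix.SpecialLinearGroup.coe_mul, Matrix.mul_apply, Finset.sum_eq_single a]
  · rfl
  · intro c _ hc
    rw [h _ _ fun e => hc (π.injective e).symm, zero_mul]
  · simp

theorem IsMono.apply_mul (h : IsMono m π) (z : SL) (a b : Fin n) :
    ((z * m : SL) : M) a b = (z : M) a (π b) * ent m π b := by
  rw [Matrix.SpecialLinearGroup.coe_mul, Matrix.mul_apply, Finset.sum_eq_single (π b)]
  · rfl
  · intro c _ hc
    rw [h _ _ hc, mul_zero]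
  · simp

theorem IsMono.conj_apply (h : IsMono m π) (z : SL) (a b : Fin n) :
    ((m * z * m⁻¹ : SL) : M) (π a) (π b) * ent m π b = ent m π a * (z : M) a b := by
  rw [← h.apply_mul, show m * z * m⁻¹ * m = m * z by group, h.mul_apply]

theorem IsMono.conj_apply' (h : IsMono m π) (z : SL) (a b : Fin n) :
    ent m π a * ((m⁻¹ * z * m : SL) : M) a b = (z : M) (π a) (π b) * ent m π b := by
  rw [← h.mul_apply, show m * (m⁻¹ * z * m) = z * m by group, h.apply_mul]

theorem isMono_one : IsMono (1 : SL) 1 := fun i j h => by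
  rw [Matrix.SpecialLinearGroup.coe_one, Matrix.one_apply_ne]
  exact h

theorem IsMono.mul (h : IsMono m π) (h' : IsMono m' π') : IsMono (m * m') (π * π') := fun i j hij => by
  obtain ⟨a, rfl⟩ := π.surjective i
  rw [h.mul_apply, h' a j fun e => hij (by rw [e]; rfl), mul_zero]

theorem IsMono.inv (h : IsMono m π) : IsMono m⁻¹ π⁻¹ := fun i j hij => by
  have h1 := h.mul_apply m⁻¹ i j
  rw [mul_inv_cancel, Matrix.SpecialLinearGroup.coe_one, Matrix.one_apply_ne] at h1
  · exact (mul_eq_zero.1 h1.symm).resolve_left (h.ent_ne i)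
  · intro e
    exact hij (by rw [← e]; simp)

theorem exists_isMono (π : Equiv.Perm (Fin n)) : ∃ m : SL, IsMono m π := by
  rcases Nat.eq_zero_or_pos n with hn | hn
  · subst hn
    exact ⟨1, fun i => i.elim0⟩
  let d : Fin n → F := Function.update (fun _ => 1) ⟨0, hn⟩ ((Equiv.Perm.sign π : ℤ) : F)
  refine ⟨⟨(Matrix.diagonal fun i => d (π⁻¹ i)).submatrix id π, ?_⟩, fun i j hij => ?_⟩
  · rw [Matrix.det_permute', Matrix.det_diagonal, Equiv.prod_comp π⁻¹ d,
      Finset.prod_update_of_mem (Finset.mem_univ _), Finset.prod_const_one, mul_one, ← Int.cast_mul,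
      ← Units.val_mul, Int.units_mul_self, Units.val_one, Int.cast_one]
  · show Matrix.diagonal (fun i => d (π⁻¹ i)) i (π j) = 0
    exact Matrix.diagonal_apply_ne _ hij

theorem IsMono.diag_div (h : IsMono m π) (h' : IsMono m' π) : IsMono (m'⁻¹ * m) 1 := by
  simpa using h'.inv.mul h

/-! ### Transvections -/

theorem tr_apply {i j : Fin n} (hij : i ≠ j) (t : F) (a b : Fin n) :
    ((tr hij t : SL) : M) a b = (if a = b then 1 else 0) + (if a = i ∧ b = j then t else 0) := by
  rw [Matrix.SpecialLinearGroup.transvection_coe, Matrix.add_apply, Matrix.one_apply,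
    Matrix.single_apply]
  congr 1
  by_cases h : a = i ∧ b = j
  · rw [if_pos h, if_pos ⟨h.1.symm, h.2.symm⟩]
  · rw [if_neg h, if_neg fun e => h ⟨e.1.symm, e.2.symm⟩]

theorem tr_mem_U {i j : Fin n} (hij : i ≠ j) (t : F) (h : i < j) : (tr hij t : SL) ∈ U := by
  refine ⟨fun a b hba => ?_, fun a => ?_⟩
  · rw [tr_apply, if_neg hba.ne', if_neg, add_zero]
    rintro ⟨rfl, rfl⟩
    exact lt_asymm h hba
  · rw [tr_apply, if_pos rfl, if_neg, add_zero]
    rintro ⟨rfl, rfl⟩
    exact hij rfl

theorem mul_tr_apply {i j : Fin n} (hij : i ≠ j) (t : F) (z : SL) (a b : Fin n) :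
    ((z * tr hij t : SL) : M) a b = (z : M) a b + if b = j then t * (z : M) a i else 0 := by
  rw [Matrix.SpecialLinearGroup.coe_mul, Matrix.SpecialLinearGroup.transvection_coe, mul_add,
    mul_one, Matrix.add_apply]
  by_cases h : b = j
  · subst h
    rw [if_pos rfl, Matrix.mul_single_apply_same, mul_comm]
  · rw [if_neg h, Matrix.mul_single_apply_of_ne (hbj := h)]

theorem tr_mul_apply {i j : Fin n} (hij : i ≠ j) (t : F) (z : SL) (a b : Fin n) :
    ((tr hij t * z : SL) : M) a b = (z : M) a b + if a = i then t * (z : M) j b else 0 := by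
  rw [Matrix.SpecialLinearGroup.coe_mul, Matrix.SpecialLinearGroup.transvection_coe, add_mul,
    one_mul, Matrix.add_apply]
  by_cases h : a = i
  · subst h
    rw [if_pos rfl, Matrix.single_mul_apply_same]
  · rw [if_neg h, Matrix.single_mul_apply_of_ne (h := h)]

theorem IsMono.conj_tr (h : IsMono m π) {i j : Fin n} (hij : i ≠ j) (t : F) :
    m * tr hij t = tr (π.injective.ne hij) (ent m π i * t / ent m π j) * m := by
  refine Subtype.ext (Matrix.ext fun a b => ?_)
  show ((m * tr hij t : SL) : M) a b =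
    ((tr (π.injective.ne hij) (ent m π i * t / ent m π j) * m : SL) : M) a b
  obtain ⟨c, rfl⟩ := π.surjective a
  rw [h.mul_apply, h.apply_mul, tr_apply, tr_apply]
  simp only [π.injective.eq_iff]
  by_cases h1 : c = i ∧ b = j
  · obtain ⟨rfl, rfl⟩ := h1
    have := h.ent_ne b
    simp only [and_self, if_true, hij, if_false, zero_add]
    field_simp
  · simp only [if_neg h1, add_zero]
    split_ifs with h2
    · subst h2; ring
    · ring

/-! ### The Bruhat decomposition -/

theorem eq_one_of_monotone {π : Equiv.Perm (Fin n)} (h : StrictMono π) : π = 1 :=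
  Equiv.ext fun i => by
    simpa using congrFun (h.range_inj (strictMono_id : StrictMono (id : Fin n → Fin n)) |>.1
      (by simp)) i

variable [Fintype F]

theorem exists_bruhat (g : SL) : ∃ u ∈ U, ∃ (π : Equiv.Perm (Fin n)) (m : SL),
    IsMono m π ∧ ∃ u' ∈ U, g = u * m * u' := by
  classical
  -- the last non-zero row of a vector
  let piv : (Fin n → F) → ℕ := fun v =>
    (Finset.univ.filter fun i => v i ≠ 0).sup fun i : Fin n => (i : ℕ)
  have hpiv : ∀ v : Fin n → F, v ≠ 0 → ∃ r : Fin n, (r : ℕ) = piv v ∧ v r ≠ 0 ∧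
      ∀ i, r < i → v i = 0 := by
    intro v hv
    obtain ⟨i₀, hi₀⟩ := Function.ne_iff.1 hv
    obtain ⟨r, hr, he⟩ := Finset.exists_mem_eq_sup (Finset.univ.filter fun i => v i ≠ 0)
      ⟨i₀, by simpa using hi₀⟩ fun i : Fin n => (i : ℕ)
    refine ⟨r, he.symm, (Finset.mem_filter.1 hr).2, fun i hi => ?_⟩
    by_contra hne
    have : (i : ℕ) ≤ piv v := Finset.le_sup (f := fun i : Fin n => (i : ℕ))
      (Finset.mem_filter.2 ⟨Finset.mem_univ i, hne⟩)
    have : (r : ℕ) < i := hi
    have : piv v = r := he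
    omega
  have hcol : ∀ j : Fin n, ∃ x : Fin n → F, (x j = 1 ∧ ∀ i, j < i → x i = 0) ∧
      ∀ y : Fin n → F, (y j = 1 ∧ ∀ i, j < i → y i = 0) → piv ((g : M) *ᵥ x) ≤ piv ((g : M) *ᵥ y) := by
    intro j
    obtain ⟨x, hx, hmin⟩ := Finset.exists_min_image
      (Finset.univ.filter fun x : Fin n → F => x j = 1 ∧ ∀ i, j < i → x i = 0)
      (fun x => piv ((g : M) *ᵥ x)) ⟨Pi.single j 1, by simp +contextual [ne_of_gt]⟩
    exact ⟨x, (Finset.mem_filter.1 hx).2, fun y hy => hmin y (Finset.mem_filter.2 ⟨Finset.mem_univ _, hy⟩)⟩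
  choose x hx hxmin using hcol
  have hne : ∀ (j : Fin n) (y : Fin n → F), y j = 1 → (g : M) *ᵥ y ≠ 0 := by
    intro j y hy e
    have h1 : ((g⁻¹ : SL) : M) *ᵥ ((g : M) *ᵥ y) = y := by
      rw [Matrix.mulVec_mulVec, ← Matrix.SpecialLinearGroup.coe_mul, inv_mul_cancel,
        Matrix.SpecialLinearGroup.coe_one, Matrix.one_mulVec]
    rw [e, Matrix.mulVec_zero] at h1
    exact one_ne_zero (hy ▸ (congrFun h1 j).symm)
  choose r hr hr0 hrz using fun j => hpiv _ (hne j (x j) (hx j).1)
  have hinj : Function.Injective r := by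
    intro j k
    wlog hjk : j ≤ k generalizing j k
    · exact fun e => (this (le_of_not_ge hjk) e.symm).symm
    intro e
    by_contra hne'
    have hlt := lt_of_le_of_ne hjk hne'
    set c := ((g : M) *ᵥ x k) (r k) / ((g : M) *ᵥ x j) (r j) with hc
    have hy : (x k - c • x j) k = 1 ∧ ∀ i, k < i → (x k - c • x j) i = 0 := by
      refine ⟨?_, fun i hi => ?_⟩
      · simp [(hx k).1, (hx j).2 k hlt]
      · simp [(hx k).2 i hi, (hx j).2 i (hlt.trans hi)]
    have h1 := hxmin k _ hy
    obtain ⟨s, hs, hs0, hsz⟩ := hpiv _ (hne k _ hy.1)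
    rw [← hs, ← hr k] at h1
    have happ : ∀ i, ((g : M) *ᵥ (x k - c • x j)) i =
        ((g : M) *ᵥ x k) i - c * ((g : M) *ᵥ x j) i := fun i => by
      simp [Matrix.mulVec_sub, Matrix.mulVec_smul]
    refine hs0 ?_
    rw [happ]
    rcases eq_or_lt_of_le (Fin.le_def.2 h1) with h2 | h2
    · rw [← h2, hc, e, div_mul_cancel₀, sub_self]
      rw [← e]
      exact hr0 j
    · rw [hrz k s h2, hrz j s (by rwa [e]), mul_zero, sub_zero]
  let π : Equiv.Perm (Fin n) := Equiv.ofBijective r hinj.bijective_of_finite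
  have hbdet : (Matrix.of fun i j => x j i : M).det = 1 := by
    rw [Matrix.det_of_upperTriangular]
    · simp [(hx _).1]
    · intro i j hij
      exact (hx j).2 i hij
  let b : SL := ⟨Matrix.of fun i j => x j i, hbdet⟩
  have hb : b ∈ U := ⟨fun i j h => (hx j).2 i h, fun i => (hx i).1⟩
  let W : M := Matrix.of fun i a => ((g : M) *ᵥ x (π.symm a)) i / ((g : M) *ᵥ x (π.symm a)) a
  have hπ : ∀ a, r (π.symm a) = a := fun a => π.apply_symm_apply a
  have hWd : ∀ a, W a a = 1 := fun a => by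
    refine div_self ?_
    have := hr0 (π.symm a)
    rwa [hπ a] at this
  have hWu : ∀ i a, a < i → W i a = 0 := fun i a h => by
    show _ / _ = (0 : F)
    rw [hrz (π.symm a) i (by rwa [hπ a]), zero_div]
  have hWdet : W.det = 1 := by
    rw [Matrix.det_of_upperTriangular (fun i j h => hWu i j h)]
    simp [hWd]
  let u : SL := ⟨W, hWdet⟩
  refine ⟨u, ⟨hWu, hWd⟩, π, u⁻¹ * (g * b), ?_, b⁻¹, inv_mem hb, by group⟩
  let M0 : M := Matrix.of fun i j => if i = π j then ((g : M) *ᵥ x j) (π j) else 0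
  have hM0 : ((u⁻¹ * (g * b) : SL) : M) = M0 := by
    have h1 : ((g * b : SL) : M) = W * M0 := by
      refine Matrix.ext fun i j => ?_
      rw [Matrix.mul_apply, Finset.sum_eq_single (π j)]
      · show ((g : M) * Matrix.of fun i j => x j i) i j = _ / _ * (if π j = π j then _ else _)
        rw [if_pos rfl, Equiv.symm_apply_apply, div_mul_cancel₀]
        · rfl
        · exact hr0 j
      · intro c _ hc
        show _ * (if c = π j then _ else _) = (0 : F)
        rw [if_neg hc, mul_zero]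
      · simp
    rw [Matrix.SpecialLinearGroup.coe_mul, h1, ← Matrix.mul_assoc,
      show W = ((u : SL) : M) from rfl, ← Matrix.SpecialLinearGroup.coe_mul, inv_mul_cancel,
      Matrix.SpecialLinearGroup.coe_one, one_mul]
  intro i j hij
  rw [hM0]
  exact if_neg hij

/-! ### The Sylow subgroup -/

theorem card_U (hn : 1 ≤ n) :
    Nat.card U = Fintype.card F ^ (∑ i : Fin n, (i : ℕ)) := by
  rw [← card_unitri (F := F) hn]
  refine Nat.card_congr (Equiv.ofBijective
    (fun s => (⟨_, Subgroup.mem_map_of_mem _ s.2⟩ : unitri (n := n) (F := F))) ⟨?_, ?_⟩)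
  · intro s t h
    exact Subtype.ext (mk_injOn (s : SL) (t : SL) s.2 t.2 ⟨0, hn⟩ (congrArg Subtype.val h :))
  · rintro ⟨_, s, hs, rfl⟩
    exact ⟨⟨s, hs⟩, rfl⟩

theorem exists_sylow (p : ℕ) [Fact p.Prime] [CharP F p] (hn : 1 ≤ n) :
    ∃ P : Sylow p SL, (P : Subgroup SL) = U := by
  obtain ⟨a, hp, hF⟩ := FiniteField.card F p
  set N := ∑ i : Fin n, (i : ℕ)
  have h2 := Classical.Linear.mul_natCard_SL_fin (F := F) (k := n) hn
  have h3 : (Fintype.card F - 1) * Nat.card SL =
      Fintype.card F ^ N * ∏ i : Fin n, (Fintype.card F ^ (n - (i : ℕ)) - 1) := by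
    rw [h2, ← Finset.prod_pow_eq_pow_sum, ← Finset.prod_mul_distrib]
    refine Finset.prod_congr rfl fun i _ => ?_
    rw [Nat.mul_sub, mul_one, ← pow_add, Nat.add_sub_cancel' i.isLt.le]
  have hpq : ∀ k : ℕ, 1 ≤ k → ¬ p ∣ Fintype.card F ^ k - 1 := by
    intro k hk h
    have h4 : p ∣ Fintype.card F ^ k := dvd_pow (hF ▸ dvd_pow_self p a.ne_zero) (by omega)
    have h5 := Nat.dvd_sub h4 h
    rw [Nat.sub_sub_self (Nat.one_le_pow _ _ Fintype.card_pos)] at h5
    exact hp.not_dvd_one h5
  refine ⟨IsPGroup.toSylow (P := U) (IsPGroup.of_card (n := (a : ℕ) * N) ?_) ?_, rfl⟩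
  · rw [card_U hn, hF, ← pow_mul]
  · intro hdvd
    have h6 := Subgroup.card_mul_index U
    rw [card_U hn] at h6
    have h7 : (Fintype.card F - 1) * Subgroup.index U =
        ∏ i : Fin n, (Fintype.card F ^ (n - (i : ℕ)) - 1) := by
      refine Nat.eq_of_mul_eq_mul_left (pow_pos (Fintype.card_pos (α := F)) N) ?_
      rw [← h3, ← h6]
      ring
    have h8 := (hdvd.mul_left (Fintype.card F - 1)).trans h7.dvd
    obtain ⟨i, -, hi⟩ := (Nat.prime_iff.1 hp).exists_mem_finset_dvd h8
    exact hpq _ (by omega) hi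

end Cfsg.Agent.SimpleFacts.SLBlocks
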