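import Cfsg.Agent.SimpleFacts.SLBlocks.Unique
import Cfsg.Agent.S2421
import Cfsg.Agent.Lib.FlagCharacters.Degree
import Cfsg.Agent.Lib.Classical.Linear

/-!
The restriction to `SL_n(q)` of the unipotent character of `GL_n(q)` of the partition `1^n` is irreducible
of degree `q^(n(n-1)/2)`.
-/

set_option autoImplicit false
set_option linter.unusedSectionVars false
set_option linter.style.haveILetI false
set_option maxHeartbeats 1000000

open Matrix

namespace Cfsg.Agent.SimpleFacts.SLBlocks

open Cfsg.Agent.AutPSL.Roots Cfsg.Agent.SimpleFacts.SubgroupAverage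

universe u

variable {F : Type u} [Field F] [Fintype F] {n : ℕ}

local notation "SL" => Matrix.SpecialLinearGroup (Fin n) F
local notation "M" => Matrix (Fin n) (Fin n) F
local notation "U" => (unitriSL (n := n) (F := F))

open Cfsg.FlagCharacters in
theorem qInt_sub (q : ℕ) {a b : ℕ} (h : a ≤ b) :
    (qInt q b : ℂ) - (qInt q a : ℂ) = (q : ℂ) ^ a * (qInt q (b - a) : ℂ) := by
  obtain ⟨c, rfl⟩ := Nat.exists_eq_add_of_le h
  rw [Nat.add_sub_cancel_left, qInt, qInt, qInt, Finset.sum_range_add]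
  push_cast
  simp only [pow_add, ← Finset.mul_sum]
  ring

open Cfsg.FlagCharacters in
theorem unipotent_one_degree :
    Cfsg.unipotentCharacterGL n F (fun _ => 1) 1 =
      ((Fintype.card F ^ (∑ i : Fin n, (i : ℕ)) : ℕ) : ℂ) := by
  classical
  set q := Fintype.card F with hq
  have hq0 : 0 < q := Fintype.card_pos
  have h := degree_formula (F := F) hq.symm (fun _ : Fin n => 1) (by simp)
  rw [← choose_three] at h
  have hR : ∀ j : Fin n, ∏ i ∈ Finset.Iio j,
      ((qInt q (1 + (j : ℕ)) : ℂ) - (qInt q (1 + (i : ℕ)) : ℂ)) =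
      (q : ℂ) ^ (((j : ℕ) + 1).choose 2) * (qFact q (j : ℕ) : ℂ) := by
    intro j
    have e1 : ∏ i ∈ Finset.Iio j, ((qInt q (1 + (j : ℕ)) : ℂ) - (qInt q (1 + (i : ℕ)) : ℂ)) =
        ∏ i ∈ Finset.range (j : ℕ), ((qInt q (1 + (j : ℕ)) : ℂ) - (qInt q (1 + i) : ℂ)) := by
      refine Finset.prod_bij (fun i _ => (i : ℕ)) (fun i hi => ?_) (fun a _ b _ e => Fin.ext e)
        (fun b hb => ?_) (fun _ _ => rfl)
      · exact Finset.mem_range.2 (Fin.lt_def.1 (Finset.mem_Iio.1 hi))
      · exact ⟨⟨b, (Finset.mem_range.1 hb).trans j.isLt⟩, Finset.mem_Iio.2 (Finset.mem_range.1 hb), rfl⟩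
    rw [e1, Finset.prod_congr rfl fun i hi => qInt_sub q (by have := Finset.mem_range.1 hi; omega),
      Finset.prod_mul_distrib, Finset.prod_pow_eq_pow_sum]
    congr 1
    · congr 1
      rw [← sum_range_succ_choose_two]
    · rw [qFact, Nat.cast_prod, ← Finset.prod_range_reflect _ (j : ℕ)]
      refine Finset.prod_congr rfl fun i hi => ?_
      congr 2
      have := Finset.mem_range.1 hi
      omega
  have hswap : ∏ i : Fin n, ∏ j ∈ Finset.Ioi i,
      ((qInt q (1 + (j : ℕ)) : ℂ) - (qInt q (1 + (i : ℕ)) : ℂ)) =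
      ∏ j : Fin n, ∏ i ∈ Finset.Iio j, ((qInt q (1 + (j : ℕ)) : ℂ) - (qInt q (1 + (i : ℕ)) : ℂ)) :=
    Finset.prod_comm' (by simp)
  rw [hswap, Finset.prod_congr rfl fun j _ => hR j, Finset.prod_mul_distrib,
    Finset.prod_pow_eq_pow_sum] at h
  have hfact : (qFact q n : ℂ) * ∏ j : Fin n, (qFact q (j : ℕ) : ℂ) =
      ∏ i : Fin n, (qFact q (1 + (i : ℕ)) : ℂ) := by
    rw [Fin.prod_univ_eq_prod_range (fun j => (qFact q j : ℂ)) n,
      Fin.prod_univ_eq_prod_range (fun j => (qFact q (1 + j) : ℂ)) n, mul_comm,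
      ← Finset.prod_range_succ (fun j => (qFact q j : ℂ)), Finset.prod_range_succ']
    simp [qFact, add_comm 1]
  rw [← mul_assoc (qFact q n : ℂ), mul_comm (qFact q n : ℂ), mul_assoc _ (qFact q n : ℂ), hfact] at h
  have hexp : ∑ j : Fin n, ((j : ℕ) + 1).choose 2 = n.choose 3 + ∑ i : Fin n, (i : ℕ) := by
    rw [← sum_choose_two, ← Fin.sum_univ_eq_sum_range (fun j => j.choose 2) n, ← Finset.sum_add_distrib]
    refine Finset.sum_congr rfl fun j _ => ?_
    rw [Nat.choose_succ_succ' (j : ℕ) 1, Nat.choose_one_right, add_comm]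
  rw [hexp, pow_add] at h
  have hne : (∏ i : Fin n, (qFact q (1 + (i : ℕ)) : ℂ)) ≠ 0 :=
    Finset.prod_ne_zero_iff.2 fun i _ => Nat.cast_ne_zero.2 (qFact_pos hq0 _).ne'
  have h' := mul_right_cancel₀ hne h
  rw [mul_comm ((q : ℂ) ^ n.choose 3)] at h'
  rw [mul_right_cancel₀ (pow_ne_zero _ (Nat.cast_ne_zero.2 hq0.ne')) h']
  push_cast
  rfl
where
  sum_range_succ_choose_two {m : ℕ} : ∑ i ∈ Finset.range m, (1 + i) = (m + 1).choose 2 := by
    induction m with
    | zero => simp
    | succ m ih => rw [Finset.sum_range_succ, ih, Nat.choose_succ_succ' (m + 1) 1, Nat.choose_one_right]; ring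

/-- There is an irreducible character of `SL_n(q)` of degree `|U|`. -/
theorem exists_steinberg (p : ℕ) [Fact p.Prime] [CharP F p] (hn : 1 ≤ n) :
    ∃ χ : Cfsg.IrrCharacter SL, Cfsg.charDegree (χ : SL → ℂ) = Nat.card ↥U := by
  classical
  haveI : Fintype ↥U := Fintype.ofFinite _
  haveI : Fintype SL := Fintype.ofFinite _
  have hirr := Cfsg.Agent.S2421.result (F := F) (fun _ : Fin n => 1) monotone_const (by simp)
  obtain ⟨d, σ, hσ, hσc⟩ := hirr
  haveI := hσ
  have hdim : d = Nat.card ↥U := by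
    have h1 : σ.character 1 = ((Nat.card ↥U : ℕ) : ℂ) := by
      rw [hσc, unipotent_one_degree, card_U hn]
    rw [Representation.char_one, Nat.cast_inj, Module.finrank_fin_fun] at h1
    exact h1
  let ι : SL →* GL (Fin n) F := Matrix.SpecialLinearGroup.toGL
  let ρ : Representation ℂ ↥(⊤ : Subgroup SL) (Fin d → ℂ) := σ.comp (ι.comp (⊤ : Subgroup SL).subtype)
  have hact : ∀ g, act ρ g = σ (ι g) := fun g => act_eq ρ (Subgroup.mem_top g)
  -- the character vanishes on `U`
  obtain ⟨P, hP⟩ := exists_sylow (F := F) p hn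
  have hvan : ∀ g ∈ U, g ≠ 1 → LinearMap.trace ℂ (Fin d → ℂ) (act ρ g) = 0 := by
    intro g hg hne
    rw [hact]
    have hirr' : Cfsg.IsIrrCharacter (GL (Fin n) F) σ.character :=
      Cfsg.Agent.Characters.isIrrCharacter_character σ
    refine Cfsg.Agent.BlockCharsA.DefectZeroVanish.eq_zero_of_singular (p := p) Fact.out
      ⟨σ.character, hirr'⟩ ?_ ?_
    · have he : Cfsg.charDegree σ.character = d := by
        apply Nat.cast_injective (R := ℂ)
        rw [Cfsg.Agent.Blocks.charDegree_cast ⟨σ.character, hirr'⟩]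
        exact σ.char_one.trans (by rw [Module.finrank_fin_fun])
      show p ^ _ ∣ Cfsg.charDegree σ.character
      rw [he, hdim, ← hP, P.card_eq_multiplicity]
      refine (congrArg (p ^ ·) ?_).dvd
      haveI : Nonempty (Fin n) := ⟨⟨0, hn⟩⟩
      rw [Cfsg.Agent.Classical.Linear.natCard_GL_eq_mul (F := F) (n := Fin n),
        Nat.factorization_mul (by have := Fintype.one_lt_card (α := F); omega) Nat.card_pos.ne',
        Finsupp.add_apply, Nat.factorization_eq_zero_of_not_dvd, zero_add]
      obtain ⟨a, hp, hF⟩ := FiniteField.card F p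
      intro h
      have h5 := Nat.dvd_sub (hF ▸ dvd_pow_self p a.ne_zero : p ∣ Fintype.card F) h
      rw [Nat.sub_sub_self Fintype.card_pos] at h5
      exact hp.not_dvd_one h5
    · obtain ⟨k, hk⟩ := IsPGroup.iff_orderOf.1 P.isPGroup' ⟨g, hP.symm ▸ hg⟩
      rw [Subgroup.orderOf_mk] at hk
      rw [orderOf_injective ι Matrix.SpecialLinearGroup.toGL_injective, hk]
      refine dvd_pow_self p fun e => hne ?_
      rw [e, pow_zero] at hk
      exact orderOf_eq_one_iff.1 hk
  haveI hnt := Cfsg.Agent.Characters.nontrivial_of_isIrreducible σ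
  -- the line fixed by `U`
  have hone : ∀ a ∈ U, ∀ b ∈ U, (fun _ : SL => (1 : ℂ)) (a * b) = (fun _ => (1 : ℂ)) a * (fun _ => (1 : ℂ)) b :=
    fun _ _ _ _ => (one_mul 1).symm
  have hrank : Module.finrank ℂ (LinearMap.range (avg ρ U fun _ => (1 : ℂ))) = 1 := by
    have h2 := finrank_avg_of_vanish ρ (S := U) le_top (f := fun _ => (1 : ℂ)) rfl hone hvan
    rw [Module.finrank_fin_fun] at h2
    exact Nat.eq_of_mul_eq_mul_right Nat.card_pos (h2.trans (hdim.trans (one_mul _).symm))
  obtain ⟨⟨v, hvW⟩, hv0, hv⟩ := finrank_eq_one_iff'.1 hrank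
  have hv0' : v ≠ 0 := fun e => hv0 (Subtype.ext e)
  have hfix : ∀ g ∈ U, act ρ g v = v := by
    obtain ⟨y, rfl⟩ := hvW
    intro g hg
    rw [act_avg_apply ρ le_top rfl hone hg, one_smul]
  have hline : ∀ x, (∀ g ∈ U, act ρ g x = x) → ∃ c : ℂ, x = c • v := by
    intro x hx
    obtain ⟨c, hc⟩ := hv ⟨x, x, avg_eq_self ρ rfl hone fun g hg => by rw [hx g hg, one_smul]⟩
    exact ⟨c, (congrArg Subtype.val hc).symm⟩
  -- `v` generates
  let S := Submodule.span ℂ {w : Fin d → ℂ | ∃ g : SL, w = σ (ι g) v}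
  have hvS : v ∈ S := Submodule.subset_span ⟨1, by simp⟩
  have hdiag : ∀ a : GL (Fin n) F, ∃ g : SL, ∃ t : GL (Fin n) F, a = ι g * t ∧
      (t : M).IsDiag := by
    intro a
    let i₀ : Fin n := ⟨0, hn⟩
    let dd : Fin n → F := Function.update (fun _ => 1) i₀ (a : M).det
    have hdd : ∏ i, dd i = (a : M).det := by
      simp [dd, Finset.prod_update_of_mem (Finset.mem_univ _)]
    have hdet : (Matrix.diagonal dd).det ≠ 0 := by
      rw [Matrix.det_diagonal, hdd]
      exact (Matrix.isUnits_det_units a).ne_zero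
    let t : GL (Fin n) F := Matrix.GeneralLinearGroup.mkOfDetNeZero _ hdet
    refine ⟨⟨((a * t⁻¹ : GL (Fin n) F) : M), ?_⟩, t, ?_, Matrix.isDiag_diagonal dd⟩
    · have h1 : ((a * t⁻¹ : GL (Fin n) F) : M) * (t : M) = (a : M) := by
        rw [← Units.val_mul, inv_mul_cancel_right]
      have h2 := congrArg Matrix.det h1
      rw [Matrix.det_mul, show (t : M) = Matrix.diagonal dd from rfl, Matrix.det_diagonal, hdd] at h2
      exact mul_right_cancel₀ (Matrix.isUnits_det_units a).ne_zero (h2.trans (one_mul _).symm)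
    · apply Units.ext
      show (a : M) = ((a * t⁻¹ : GL (Fin n) F) : M) * (t : M)
      rw [← Units.val_mul, inv_mul_cancel_right]
  have hnorm : ∀ t : GL (Fin n) F, (t : M).IsDiag → (∀ g : SL, ∃ g' : SL, t * ι g = ι g' * t ∧ (g ∈ U → g' ∈ U)) := by
    intro t ht g
    have hdet : ((t * ι g * t⁻¹ : GL (Fin n) F) : M).det = 1 := by
      have h1 : ((t * ι g * t⁻¹ : GL (Fin n) F) : M) * (t : M) = (t : M) * (g : M) := by
        rw [← Units.val_mul, inv_mul_cancel_right]; rfl
      have h2 := congrArg Matrix.det h1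
      rw [Matrix.det_mul, Matrix.det_mul, g.prop, mul_one] at h2
      exact mul_right_cancel₀ (Matrix.isUnits_det_units t).ne_zero (h2.trans (one_mul _).symm)
    refine ⟨⟨_, hdet⟩, ?_, fun hg => ?_⟩
    · apply Units.ext
      show ((t * ι g : GL (Fin n) F) : M) = ((t * ι g * t⁻¹ : GL (Fin n) F) : M) * (t : M)
      rw [← Units.val_mul, inv_mul_cancel_right]
    · have h1 : ∀ a b, ((t * ι g * t⁻¹ : GL (Fin n) F) : M) a b * (t : M) b b = (t : M) a a * (g : M) a b := by
        intro a b
        have h1 : ((t * ι g * t⁻¹ : GL (Fin n) F) : M) * (t : M) = (t : M) * (g : M) := by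
          rw [← Units.val_mul, inv_mul_cancel_right]; rfl
        have h2 := congrFun (congrFun h1 a) b
        rw [← ht.diagonal_diag] at h2
        simpa [Matrix.mul_diagonal, Matrix.diagonal_mul] using h2
      have htne : ∀ b, (t : M) b b ≠ 0 := by
        intro b e
        refine (Matrix.isUnits_det_units t).ne_zero (Matrix.det_eq_zero_of_row_eq_zero b fun c => ?_)
        by_cases hc : b = c
        · subst hc; exact e
        · exact ht hc
      refine ⟨fun a b hab => ?_, fun a => ?_⟩
      · have := h1 a b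
        rw [hg.1 a b hab, mul_zero] at this
        exact (mul_eq_zero.1 this).resolve_right (htne b)
      · have := h1 a a
        rw [hg.2, mul_one] at this
        exact mul_right_cancel₀ (htne a) (this.trans (one_mul _).symm)
  have htv : ∀ t : GL (Fin n) F, (t : M).IsDiag → ∃ c : ℂ, σ t v = c • v := by
    intro t ht
    refine hline _ fun g hg => ?_
    have hti : ((t⁻¹ : GL (Fin n) F) : M).IsDiag := by
      have h2 : ((t⁻¹ : GL (Fin n) F) : M) = Matrix.diagonal fun i => ((t : M) i i)⁻¹ := by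
        rw [Matrix.coe_units_inv]
        refine Matrix.inv_eq_right_inv ?_
        conv_lhs => arg 1; rw [← ht.diagonal_diag]
        rw [Matrix.diagonal_mul_diagonal, ← Matrix.diagonal_one]
        congr 1
        funext i
        refine mul_inv_cancel₀ fun e => (Matrix.isUnits_det_units t).ne_zero
          (Matrix.det_eq_zero_of_row_eq_zero i fun c => ?_)
        by_cases hc : i = c
        · subst hc; exact e
        · exact ht hc
      rw [h2]
      exact Matrix.isDiag_diagonal _
    obtain ⟨g', hg', hU⟩ := hnorm t⁻¹ hti g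
    rw [hact, ← Module.End.mul_apply, ← map_mul,
      show ι g * t = t * ι g' by rw [← mul_inv_cancel_left t (ι g * t), ← mul_assoc t⁻¹, hg', inv_mul_cancel_right],
      map_mul, Module.End.mul_apply, ← hact g', hfix g' (hU hg)]
  have hS : S = ⊤ := by
    refine (((Cfsg.Agent.Characters.isIrreducible_iff σ).1 hσ).2 S fun a x hx => ?_).resolve_left
      fun e => hv0' ((Submodule.mem_bot ℂ).1 (e ▸ hvS))
    induction hx using Submodule.span_induction with
    | mem x hx =>
      obtain ⟨g, rfl⟩ := hx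
      obtain ⟨g₁, t, rfl, ht⟩ := hdiag a
      obtain ⟨g', hg', -⟩ := hnorm t ht g
      obtain ⟨c, hc⟩ := htv t ht
      rw [← Module.End.mul_apply, ← map_mul, mul_assoc, hg', ← mul_assoc, ← map_mul ι, map_mul,
        Module.End.mul_apply, hc, map_smul]
      exact Submodule.smul_mem _ _ (Submodule.subset_span ⟨_, rfl⟩)
    | zero => simp
    | add x y _ _ hx hy => rw [map_add]; exact add_mem hx hy
    | smul c x _ hx => rw [map_smul]; exact Submodule.smul_mem _ c hx
  -- irreducibility
  let τ : Representation ℂ SL (Fin d → ℂ) := σ.comp ι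
  have hτ : ∀ g x, τ g x = σ (ι g) x := fun _ _ => rfl
  have hτirr : τ.IsIrreducible := by
    refine (Cfsg.Agent.Characters.isIrreducible_iff τ).2 ⟨hnt, fun W hW => ?_⟩
    by_cases hvW : v ∈ W
    · refine Or.inr (eq_top_iff.2 (hS ▸ Submodule.span_le.2 ?_))
      rintro _ ⟨g, rfl⟩
      exact hW g v hvW
    · left
      obtain ⟨W', hW'⟩ := Submodule.exists_isCompl W
      let π : (Fin d → ℂ) →ₗ[ℂ] (Fin d → ℂ) := W.projection W' hW'
      have hπW : ∀ x, π x ∈ W := fun x => Submodule.projection_apply_mem hW' x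
      have hπid : ∀ x ∈ W, π x = x := fun x hx => Submodule.projection_apply_left hW' ⟨x, hx⟩
      let A : (Fin d → ℂ) →ₗ[ℂ] (Fin d → ℂ) :=
        (Nat.card SL : ℂ)⁻¹ • ∑ g : SL, τ g ∘ₗ π ∘ₗ τ g⁻¹
      have hAW : ∀ x, A x ∈ W := fun x => by
        simp only [A, LinearMap.smul_apply, LinearMap.sum_apply, LinearMap.comp_apply]
        exact W.smul_mem _ (W.sum_mem fun g _ => hW g _ (hπW _))
      have hAid : ∀ x ∈ W, A x = x := fun x hx => by
        simp only [A, LinearMap.smul_apply, LinearMap.sum_apply, LinearMap.comp_apply]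
        have h1 : ∀ g : SL, τ g (π (τ g⁻¹ x)) = x := fun g => by
          rw [hπid _ (hW _ x hx), ← Module.End.mul_apply, ← map_mul, mul_inv_cancel, map_one]
          rfl
        rw [Finset.sum_congr rfl fun g _ => h1 g, Finset.sum_const, Finset.card_univ,
          ← Nat.card_eq_fintype_card, ← Nat.cast_smul_eq_nsmul ℂ, smul_smul,
          inv_mul_cancel₀ (Nat.cast_ne_zero.2 Nat.card_pos.ne'), one_smul]
      have hAc : ∀ (h : SL) x, A (τ h x) = τ h (A x) := fun h x => by
        simp only [A, LinearMap.smul_apply, LinearMap.sum_apply, LinearMap.comp_apply, map_smul, map_sum]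
        congr 1
        refine Fintype.sum_equiv (Equiv.mulLeft h⁻¹) _ _ fun g => ?_
        simp only [Equiv.coe_mulLeft, map_mul, _root_.mul_inv_rev, inv_inv, Module.End.mul_apply]
        rw [← Module.End.mul_apply (τ h) (τ h⁻¹), ← map_mul, mul_inv_cancel, map_one,
          Module.End.one_apply]
      have hAv : A v = 0 := by
        obtain ⟨c, hc⟩ := hline (A v) fun g hg => by
          rw [hact, ← hτ, ← hAc, hτ, ← hact, hfix g hg]
        by_contra hne
        have hc0 : c ≠ 0 := fun e => hne (by rw [hc, e, zero_smul])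
        refine hvW ?_
        have h1 : c⁻¹ • A v ∈ W := W.smul_mem _ (hAW v)
        rwa [hc, inv_smul_smul₀ hc0] at h1
      rw [eq_bot_iff]
      intro x hx
      have hker : S ≤ LinearMap.ker A := by
        rw [Submodule.span_le]
        rintro _ ⟨g, rfl⟩
        show A (σ (ι g) v) = 0
        rw [← hτ, hAc, hAv, map_zero]
      have := hker (hS ▸ Submodule.mem_top : x ∈ S)
      rw [LinearMap.mem_ker, hAid x hx] at this
      exact (Submodule.mem_bot ℂ).2 this
  haveI := hτirr
  refine ⟨⟨τ.character, Cfsg.Agent.Characters.isIrrCharacter_character τ⟩, ?_⟩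
  apply Nat.cast_injective (R := ℂ)
  rw [Cfsg.Agent.Blocks.charDegree_cast ⟨τ.character, Cfsg.Agent.Characters.isIrrCharacter_character τ⟩]
  show τ.character 1 = _
  rw [Representation.char_one, Module.finrank_fin_fun, hdim]

end Cfsg.Agent.SimpleFacts.SLBlocks
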