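import Cfsg.Agent.SimpleFacts.SLBlocks.Basic
import Cfsg.Agent.Lib.Blocks.SylowIntersection
import Cfsg.Agent.Lib.Blocks.Defect

/-!
In `SL_n` over a field of characteristic `p` a defect group of a block is trivial or a Sylow subgroup.
-/

set_option autoImplicit false
set_option linter.unusedSectionVars false

open Matrix

namespace Cfsg.Agent.SimpleFacts.SLBlocks

open Cfsg.Agent.AutPSL.Roots Cfsg.Agent.Blocks

universe u

variable {F : Type u} [Field F] {n : ℕ}

local notation "SL" => Matrix.SpecialLinearGroup (Fin n) F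
local notation "M" => Matrix (Fin n) (Fin n) F
local notation "U" => (unitriSL (n := n) (F := F))
local notation "tr" => Matrix.SpecialLinearGroup.transvection

/-- Entries of `y⁻¹ (1 + t e_ij) y` at `(i, j)` for unitriangular `y`. -/
theorem conj_tr_entry {i j : Fin n} (hij : i < j) (t : F) {y : SL} (hy : y ∈ U) :
    ((y⁻¹ * tr hij.ne t * y : SL) : M) i j = t := by
  have h1 : ((y⁻¹ * tr hij.ne t : SL) : M) * (y : M) =
      1 + ((y⁻¹ : SL) : M) * Matrix.single i j t * (y : M) := by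
    rw [Matrix.SpecialLinearGroup.coe_mul, Matrix.SpecialLinearGroup.transvection_coe, mul_add,
      mul_one, add_mul, ← Matrix.SpecialLinearGroup.coe_mul, inv_mul_cancel,
      Matrix.SpecialLinearGroup.coe_one]
  rw [Matrix.SpecialLinearGroup.coe_mul, h1, Matrix.add_apply, Matrix.one_apply_ne hij.ne, zero_add,
    Matrix.mul_apply, Finset.sum_eq_single j]
  · rw [Matrix.mul_single_apply_same, (inv_mem hy : y⁻¹ ∈ U).2 i, hy.2 j, one_mul, mul_one]
  · intro c _ hc
    rw [Matrix.mul_single_apply_of_ne (hbj := hc), zero_mul]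
  · simp

/-- A subgroup of `U` that is the intersection of `U` with a conjugate by an element centralising it. -/
def IsInter (D : Subgroup SL) : Prop :=
  ∃ x : SL, (∀ z ∈ D, x * z = z * x) ∧ ∀ z, z ∈ D ↔ z ∈ U ∧ x⁻¹ * z * x ∈ U

/-- The pairs of positions of `U ⊓ m U m⁻¹`. -/
def InPhi (π : Equiv.Perm (Fin n)) (i j : Fin n) : Prop := i < j ∧ π⁻¹ i < π⁻¹ j

theorem exists_data [Fintype F] {D : Subgroup SL} (hD : IsInter D) :
    ∃ (u : SL) (π : Equiv.Perm (Fin n)), u ∈ U ∧
      (∀ z, z ∈ D ↔ u⁻¹ * z * u ∈ U ∧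
        ∀ i j, i < j → ¬ InPhi π i j → ((u⁻¹ * z * u : SL) : M) i j = 0) ∧
      ∀ i j, InPhi π i j → π i = i ∧ π j = j := by
  obtain ⟨x, hxc, hD⟩ := hD
  obtain ⟨u, hu, π, m, hm, v, hv, rfl⟩ := exists_bruhat x
  refine ⟨u, π, hu, fun z => ?_, fun i j hij => ?_⟩
  · set z0 := u⁻¹ * z * u with hz0
    have e : (u * m * v)⁻¹ * z * (u * m * v) = v⁻¹ * (m⁻¹ * z0 * m) * v := by rw [hz0]; group
    rw [hD, e]
    constructor
    · rintro ⟨hz, hz'⟩
      have h1 : z0 ∈ U := mul_mem (mul_mem (inv_mem hu) hz) hu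
      have h2 : m⁻¹ * z0 * m ∈ U := by
        have := mul_mem (mul_mem hv hz') (inv_mem hv)
        simpa [mul_assoc] using this
      refine ⟨h1, fun i j hij hne => ?_⟩
      have hlt : π⁻¹ j < π⁻¹ i := lt_of_le_of_ne (not_lt.1 fun h => hne ⟨hij, h⟩)
        fun e => hij.ne' ((π⁻¹).injective e)
      have h3 := hm.conj_apply' z0 (π⁻¹ i) (π⁻¹ j)
      rw [h2.1 _ _ hlt, mul_zero] at h3
      simpa [hm.ent_ne] using h3.symm
    · rintro ⟨h1, h2⟩
      refine ⟨by simpa [hz0, mul_assoc] using mul_mem (mul_mem hu h1) (inv_mem hu),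
        mul_mem (mul_mem (inv_mem hv) ⟨fun a b hab => ?_, fun a => ?_⟩) hv⟩
      · have h3 := hm.conj_apply' z0 a b
        have h4 : (z0 : M) (π a) (π b) = 0 := by
          rcases lt_trichotomy (π a) (π b) with h | h | h
          · exact h2 _ _ h fun hp => by simp [InPhi] at hp; exact lt_asymm hab hp.2
          · exact absurd (π.injective h) hab.ne'
          · exact h1.1 _ _ h
        rw [h4, zero_mul] at h3
        exact (mul_eq_zero.1 h3).resolve_left (hm.ent_ne a)
      · have h3 := hm.conj_apply' z0 a a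
        rw [h1.2, one_mul] at h3
        exact mul_left_cancel₀ (hm.ent_ne a) (h3.trans (mul_one _).symm)
  · obtain ⟨hlt, hlt'⟩ := hij
    have hE : u * tr hlt.ne 1 * u⁻¹ ∈ D := by
      rw [hD]
      have e : (u * m * v)⁻¹ * (u * tr hlt.ne 1 * u⁻¹) * (u * m * v) =
          v⁻¹ * (m⁻¹ * tr hlt.ne 1 * m) * v := by group
      rw [e]
      refine ⟨mul_mem (mul_mem hu (tr_mem_U _ _ hlt)) (inv_mem hu),
        mul_mem (mul_mem (inv_mem hv) ?_) hv⟩
      have h1 := hm.inv.conj_tr hlt.ne (1 : F)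
      rw [show m⁻¹ * tr hlt.ne 1 * m = m⁻¹ * tr hlt.ne 1 * (m⁻¹)⁻¹ by group, h1,
        mul_inv_cancel_right]
      exact tr_mem_U _ _ hlt'
    set b := v * u with hb
    have hbU : b ∈ U := mul_mem hv hu
    have hc : (m * b) * tr hlt.ne 1 = tr hlt.ne 1 * (m * b) := by
      have h := hxc _ hE
      have := congrArg (fun y => u⁻¹ * y * u) h
      simpa [hb, mul_assoc] using this
    have key : ∀ a c, (if c = j then ((m * b : SL) : M) a i else 0) =
        (if a = i then ((m * b : SL) : M) j c else 0) := by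
      intro a c
      have h := congrArg (fun y : SL => (y : M) a c) hc
      simp only [mul_tr_apply, tr_mul_apply, one_mul] at h
      exact add_left_cancel h
    have hi : π i = i := by
      by_contra hne
      have := key (π i) j
      rw [if_pos rfl, if_neg hne, hm.mul_apply, hbU.2, mul_one] at this
      exact hm.ent_ne i this
    refine ⟨hi, ?_⟩
    by_contra hne
    have hne' : π⁻¹ j ≠ j := fun e => hne (by
      conv_lhs => rw [← e]
      simp)
    have := key i (π⁻¹ j)
    rw [if_neg hne', if_pos rfl] at this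
    have h2 := hm.mul_apply b (π⁻¹ j) (π⁻¹ j)
    rw [show π (π⁻¹ j) = j by simp, hbU.2, mul_one, ← this] at h2
    exact hm.ent_ne _ h2.symm

theorem eq_bot_or_card [Fintype F] {D : Subgroup SL} (hDU : D ≤ U)
    (hD : ∀ y : SL, (∀ z ∈ D, y * z * y⁻¹ ∈ U) → IsInter (D.map (MulAut.conj y).toMonoidHom)) :
    D = ⊥ ∨ Nat.card D = Nat.card U := by
  classical
  have hDi : IsInter D := by
    have h := hD 1 fun z hz => by simpa using hDU hz
    rwa [show (MulAut.conj (1 : SL)).toMonoidHom = MonoidHom.id _ by ext; simp, Subgroup.map_id] at h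
  obtain ⟨u, π, hu, hmem, hfix⟩ := exists_data hDi
  by_cases hne : ∀ i j, ¬ InPhi π i j
  · left
    rw [eq_bot_iff]
    intro z hz
    obtain ⟨h1, h2⟩ := (hmem z).1 hz
    have h3 : u⁻¹ * z * u = 1 := by
      refine Subtype.ext (Matrix.ext fun a b => ?_)
      rcases lt_trichotomy a b with h | h | h
      · exact (h2 a b h (hne a b)).trans (Matrix.one_apply_ne h.ne).symm
      · subst h; exact (h1.2 a).trans (Matrix.one_apply_eq a).symm
      · exact (h1.1 a b h).trans (Matrix.one_apply_ne h.ne').symm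
    rw [Subgroup.mem_bot, show z = u * (u⁻¹ * z * u) * u⁻¹ by group, h3]
    group
  right
  simp only [not_forall, not_not] at hne
  obtain ⟨i, j, hij⟩ := hne
  have hi := hfix i j hij
  -- the first fixed point
  obtain ⟨a, ha, hamin⟩ := Finset.exists_min_image (Finset.univ.filter fun x => π x = x) id
    ⟨i, by simp [hi.1]⟩
  have ha' : π a = a := (Finset.mem_filter.1 ha).2
  have hai : a ≤ i := hamin i (by simp [hi.1])
  have haj : InPhi π a j := by
    have h1 : π⁻¹ a = a := Equiv.Perm.inv_eq_iff_eq.2 ha'.symm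
    have h2 : π⁻¹ j = j := Equiv.Perm.inv_eq_iff_eq.2 hi.2.symm
    exact ⟨hai.trans_lt hij.1, by rw [h1, h2]; exact hai.trans_lt hij.1⟩
  -- move the fixed points to the front
  let f : Fin n → ℕ := fun x => if π x = x then (x : ℕ) else n + x
  let σ : Equiv.Perm (Fin n) := (Tuple.sort f)⁻¹
  have hσmono : ∀ x y, σ x ≤ σ y → f x ≤ f y := fun x y h => by
    simpa [σ] using Tuple.monotone_sort f h
  obtain ⟨r, hr⟩ := exists_isMono (F := F) σ
  have hy : ∀ z ∈ D, (r * u⁻¹) * z * (r * u⁻¹)⁻¹ ∈ U := by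
    intro z hz
    obtain ⟨h1, h2⟩ := (hmem z).1 hz
    rw [show (r * u⁻¹) * z * (r * u⁻¹)⁻¹ = r * (u⁻¹ * z * u) * r⁻¹ by group]
    refine ⟨fun c d hcd => ?_, fun c => ?_⟩
    · obtain ⟨c, rfl⟩ := σ.surjective c
      obtain ⟨d, rfl⟩ := σ.surjective d
      have h3 := hr.conj_apply (u⁻¹ * z * u) c d
      have h4 : ((u⁻¹ * z * u : SL) : M) c d = 0 := by
        rcases lt_trichotomy c d with h | h | h
        · refine h2 c d h fun hp => ?_
          obtain ⟨hc, hd⟩ := hfix c d hp
          have := hσmono d c hcd.le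
          simp only [f, hc, hd, if_true] at this
          exact absurd h (not_lt.2 (Fin.le_def.2 this))
        · exact absurd (congrArg σ h) hcd.ne'
        · exact h1.1 c d h
      rw [h4, mul_zero] at h3
      exact (mul_eq_zero.1 h3).resolve_right (hr.ent_ne d)
    · obtain ⟨c, rfl⟩ := σ.surjective c
      have h3 := hr.conj_apply (u⁻¹ * z * u) c c
      rw [h1.2, mul_one] at h3
      exact mul_right_cancel₀ (hr.ent_ne c) (h3.trans (one_mul _).symm)
  set D' := D.map (MulAut.conj (r * u⁻¹)).toMonoidHom with hD'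
  obtain ⟨u', π', hu', hmem', hfix'⟩ := exists_data (hD _ hy)
  have hσ0 : ∀ x, σ a ≤ σ x := by
    intro x
    by_contra hlt
    have h1 := hσmono x a (le_of_not_ge hlt)
    have h2 : f x = f a → x = a := by
      simp only [f, ha', if_true]
      split_ifs
      · exact fun e => Fin.ext e
      · intro e; have := a.isLt; omega
    have h3 : f a ≤ f x := by
      simp only [f, ha', if_true]
      split_ifs with h
      · exact Fin.le_def.1 (hamin x (by simp [h]))
      · have := a.isLt; omega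
    exact hlt (le_of_eq (by rw [h2 (le_antisymm h1 h3)]))
  have hσlt : σ a < σ j := lt_of_le_of_ne (hσ0 j) fun e => haj.1.ne (σ.injective e)
  obtain ⟨t, ht, hT⟩ : ∃ t : F, t ≠ 0 ∧ tr hσlt.ne t ∈ D' := by
    refine ⟨ent r σ a * 1 / ent r σ j, by simp [hr.ent_ne], u * tr haj.1.ne 1 * u⁻¹, ?_, ?_⟩
    · rw [SetLike.mem_coe, hmem]
      rw [show u⁻¹ * (u * tr haj.1.ne 1 * u⁻¹) * u = tr haj.1.ne 1 by group]
      refine ⟨tr_mem_U _ _ haj.1, fun c d hcd hn => ?_⟩
      rw [tr_apply, if_neg hcd.ne, zero_add, if_neg]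
      rintro ⟨rfl, rfl⟩
      exact hn haj
    · simp only [MulEquiv.coe_toMonoidHom, MulAut.conj_apply]
      rw [show r * u⁻¹ * (u * tr haj.1.ne 1 * u⁻¹) * (r * u⁻¹)⁻¹ = r * tr haj.1.ne 1 * r⁻¹ by group,
        hr.conj_tr, mul_inv_cancel_right]
  have hphi : InPhi π' (σ a) (σ j) := by
    by_contra hn
    have := ((hmem' _).1 hT).2 _ _ hσlt hn
    rw [conj_tr_entry hσlt t hu'] at this
    exact ht this
  have h0 : π' (σ a) = σ a := (hfix' _ _ hphi).1
  have hall : ∀ c, π' c = c := by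
    intro c
    by_cases hc : c = σ a
    · rw [hc]; exact h0
    · have hlt : σ a < c := by
        obtain ⟨c, rfl⟩ := σ.surjective c
        exact lt_of_le_of_ne (hσ0 c) (Ne.symm hc)
      refine (hfix' _ _ ⟨hlt, ?_⟩).2
      rw [show π'⁻¹ (σ a) = σ a from Equiv.Perm.inv_eq_iff_eq.2 h0.symm]
      obtain ⟨x, hx⟩ := σ.surjective (π'⁻¹ c)
      refine lt_of_le_of_ne (hx ▸ hσ0 x) fun e => hc ?_
      have := congrArg π' e
      rw [h0] at this
      simpa using this.symm
  have hπ' : π' = 1 := Equiv.ext hall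
  have hD'U : D' = U := by
    refine SetLike.ext fun z => (hmem' z).trans ⟨fun h => ?_, fun h => ?_⟩
    · simpa [mul_assoc] using mul_mem (mul_mem hu' h.1) (inv_mem hu')
    · exact ⟨mul_mem (mul_mem (inv_mem hu') h) hu', fun c d hcd hn => absurd ⟨hcd, by simpa [hπ'] using hcd⟩ hn⟩
  rw [← hD'U]
  exact Nat.card_congr (D.equivMapOfInjective _ (MulEquiv.injective _)).toEquiv

/-- Every defect group is trivial or a Sylow subgroup. -/
theorem defect_cases [Fintype F] {p : ℕ} [Fact p.Prime] {I : Ideal Cfsg.AlgInt}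
    (hM : Cfsg.IsPModular p I) (P : Sylow p SL) (hP : (P : Subgroup SL) = U)
    {B : Set (Cfsg.IrrCharacter SL)} (hB : Cfsg.IsPBlock I B) :
    Cfsg.IsDefectGroup p I B ⊥ ∨ Cfsg.IsDefectGroup p I B (P : Subgroup SL) := by
  classical
  obtain ⟨E₀, hE₀⟩ := exists_defectGroup hM hB
  obtain ⟨Q, hQ⟩ := (isPGroup_defect hE₀).exists_le_sylow
  obtain ⟨g, hg⟩ := MulAction.exists_smul_eq SL Q P
  obtain ⟨E, hE⟩ : ∃ E, E = E₀.map (MulAut.conj g).toMonoidHom := ⟨_, rfl⟩
  have hED : Cfsg.IsDefectGroup p I B E := hE ▸ defectGroup_conj hM hE₀ g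
  have hEP : E ≤ P := by
    rw [hE, ← hg, Sylow.coe_subgroup_smul]
    rintro _ ⟨z, hz, rfl⟩
    exact ⟨z, hQ hz, rfl⟩
  have key : ∀ y : SL, (∀ z ∈ E, y * z * y⁻¹ ∈ U) → IsInter (E.map (MulAut.conj y).toMonoidHom) := by
    intro y hy
    have hyD := defectGroup_conj hM hED y
    have hle : E.map (MulAut.conj y).toMonoidHom ≤ P := by
      rw [hP]
      rintro _ ⟨z, hz, rfl⟩
      exact hy z hz
    obtain ⟨x, -, hxs, hinf⟩ := defectGroup_eq_sylow_inter hM hB hyD P hle
    refine ⟨x, fun z hz => (Subgroup.mem_centralizer_iff.1 (isSylCent_mem hxs) z hz).symm, fun z => ?_⟩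
    rw [← hinf, Subgroup.mem_inf, mem_map_conj_iff, hP]
  rcases eq_bot_or_card (hP ▸ hEP) key with h | h
  · exact Or.inl (h ▸ hED)
  · refine Or.inr ?_
    have : E = (P : Subgroup SL) := Subgroup.eq_of_le_of_card_ge hEP (by rw [h, hP])
    exact this ▸ hED

end Cfsg.Agent.SimpleFacts.SLBlocks
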