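import Cfsg.Agent.SimpleFacts.SLBlocks.Existence
import Cfsg.Agent.SimpleFacts.SLBlocks.Intersections
import Cfsg.Agent.Lib.Blocks.NormalSylow
import Cfsg.Agent.Lib.Blocks.DefectCenter

/-!
The blocks of `SL_n(q)` in the defining characteristic.
-/

set_option autoImplicit false
set_option linter.unusedSectionVars false
set_option linter.style.haveILetI false

open Matrix

namespace Cfsg.Agent.SimpleFacts.SLBlocks

open Cfsg.Agent.AutPSL.Roots Cfsg.Agent.Blocks

universe u

variable {F : Type u} [Field F] [Fintype F] {n : ℕ}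

local notation "SL" => Matrix.SpecialLinearGroup (Fin n) F
local notation "M" => Matrix (Fin n) (Fin n) F
local notation "U" => (unitriSL (n := n) (F := F))
local notation "tr" => Matrix.SpecialLinearGroup.transvection

variable {p : ℕ} [Fact p.Prime] [CharP F p] {I : Ideal Cfsg.AlgInt}

theorem factorization_pos (hn : 2 ≤ n) : (Nat.card SL).factorization p ≠ 0 := by
  obtain ⟨P, hP⟩ := exists_sylow (F := F) p (by omega : 1 ≤ n)
  intro h
  have h1 := P.card_eq_multiplicity
  rw [hP, h, pow_zero, card_U (by omega), Nat.pow_eq_one] at h1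
  have := Fintype.one_lt_card (α := F)
  rcases h1 with h1 | h1
  · omega
  · have h2 := Finset.single_le_sum (fun (i : Fin n) _ => Nat.zero_le (i : ℕ))
      (Finset.mem_univ (⟨1, by omega⟩ : Fin n))
    simp only [h1] at h2
    omega

/-- The block of defect zero. -/
theorem exists_defect_zero (hn : 1 ≤ n) (hM : Cfsg.IsPModular p I) :
    ∃ St : Cfsg.IrrCharacter SL, Cfsg.charDegree (St : SL → ℂ) = Nat.card ↥U ∧
      (∀ χ : Cfsg.IrrCharacter SL, Nat.card ↥U ∣ Cfsg.charDegree (χ : SL → ℂ) → χ = St) ∧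
      (∀ z : SL, IsMono z 1 → (∀ g, z * g = g * z) → (St : SL → ℂ) z = (St : SL → ℂ) 1) ∧
      Cfsg.blockDefect p (Cfsg.blockOf I (St : SL → ℂ)) = 0 ∧
      Cfsg.blockOf I (St : SL → ℂ) = {St} ∧
      ∀ B, Cfsg.IsPBlock I B → Cfsg.blockDefect p B = 0 → B = {St} := by
  obtain ⟨St, hdeg⟩ := exists_steinberg (F := F) p hn
  obtain ⟨-, huniq, hz⟩ := steinberg_facts (p := p) hn St (hdeg ▸ dvd_rfl)
  obtain ⟨P, hP⟩ := exists_sylow (F := F) p hn
  have hcard : Nat.card ↥U = p ^ (Nat.card SL).factorization p := hP ▸ P.card_eq_multiplicity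
  have h0 : Cfsg.blockDefect p (Cfsg.blockOf I (St : SL → ℂ)) = 0 := by
    refine blockDefect_zero_of_vanish hM St fun g hg => ?_
    exact Cfsg.Agent.BlockCharsA.DefectZeroVanish.eq_zero_of_singular (p := p) Fact.out St
      (by rw [hdeg, hcard]) (hg ▸ dvd_rfl)
  have hB := isPBlock_blockOf I St
  have hmem : ∀ B, Cfsg.IsPBlock I B → Cfsg.blockDefect p B = 0 → ∀ χ ∈ B, χ = St := by
    intro B hB hB0 χ hχ
    refine huniq χ ?_
    have hd := degree_factorization_eq hM hB hχ
    rw [hB0, add_zero] at hd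
    rw [hcard]
    refine dvd_trans (Nat.pow_dvd_pow p ?_) (Nat.ordProj_dvd _ p)
    omega
  have hall : ∀ B, Cfsg.IsPBlock I B → Cfsg.blockDefect p B = 0 → B = {St} := by
    intro B hB hB0
    obtain ⟨χ, hχ⟩ := block_nonempty hM hB
    refine Set.eq_singleton_iff_unique_mem.2 ⟨hmem B hB hB0 χ hχ ▸ hχ, hmem B hB hB0⟩
  exact ⟨St, hdeg, huniq, hz, h0, hall _ hB h0, hall⟩

/-- Every block has defect zero or full defect. -/
theorem blockDefect_cases (hM : Cfsg.IsPModular p I) (P : Sylow p SL)
    (hP : (P : Subgroup SL) = U) {B : Set (Cfsg.IrrCharacter SL)} (hB : Cfsg.IsPBlock I B) :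
    Cfsg.blockDefect p B = 0 ∨ (Cfsg.blockDefect p B = (Nat.card SL).factorization p ∧
      Cfsg.IsDefectGroup p I B (P : Subgroup SL)) := by
  have hp1 : 1 < p := (Fact.out : p.Prime).one_lt
  rcases defect_cases hM P hP hB with h | h
  · left
    have := card_defectGroup hM hB h
    rw [Subgroup.card_bot] at this
    exact (Nat.pow_eq_one.1 this.symm).resolve_left hp1.ne'
  · exact Or.inr ⟨Nat.pow_right_injective hp1 ((card_defectGroup hM hB h).symm.trans P.card_eq_multiplicity), h⟩

theorem tr_mul_tr {i j : Fin n} (hij : i ≠ j) (s t : F) :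
    (tr hij s : SL) * tr hij t = tr hij (s + t) := by
  refine Subtype.ext (Matrix.ext fun a b => ?_)
  show ((tr hij s * tr hij t : SL) : M) a b = ((tr hij (s + t) : SL) : M) a b
  rw [mul_tr_apply, tr_apply, tr_apply, tr_apply]
  by_cases h1 : a = i <;> by_cases h2 : b = j <;> simp_all

theorem tr_pow {i j : Fin n} (hij : i ≠ j) (t : F) (k : ℕ) :
    (tr hij t : SL) ^ k = tr hij ((k : F) * t) := by
  induction k with
  | zero => rw [pow_zero, Nat.cast_zero, zero_mul, Matrix.SpecialLinearGroup.transvection_coeff_zero]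
  | succ k ih => rw [pow_succ, ih, tr_mul_tr, Nat.cast_succ, add_mul, one_mul]

/-- A regular element centralising `U` is scalar. -/
theorem scalar_of_centralizes (hn : 2 ≤ n) {g : SL} (hreg : ¬ p ∣ orderOf g)
    (hc : ∀ z ∈ U, z * g = g * z) : ∃ s : F, (g : M) = s • (1 : M) := by
  classical
  let a₀ : Fin n := ⟨0, by omega⟩
  let l : Fin n := ⟨n - 1, by omega⟩
  have hne : a₀ ≠ l := fun e => by have := congrArg Fin.val e; simp [a₀, l] at this; omega
  have hkey : ∀ i j : Fin n, i < j → ∀ a c,
      (if c = j then (g : M) a i else 0) = (if a = i then (g : M) j c else 0) := by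
    intro i j hij a c
    have h := congrArg (fun y : SL => (y : M) a c) (hc _ (tr_mem_U hij.ne 1 hij))
    simp only [mul_tr_apply, tr_mul_apply, one_mul] at h
    exact (add_left_cancel h).symm
  have hoff : ∀ a i, a ≠ i → ¬ (a = a₀ ∧ i = l) → (g : M) a i = 0 := by
    intro a i hai h
    by_cases hi : i = l
    · have ha : a₀ < a := by
        have h1 : (a : ℕ) ≠ 0 := fun e => h ⟨Fin.ext e, hi⟩
        exact Fin.lt_def.2 (by simp [a₀]; omega)
      have := hkey a₀ a ha a₀ i
      rw [if_neg fun e => hai e.symm, if_pos rfl] at this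
      exact this.symm
    · have hlt : i < l := by
        have : (i : ℕ) ≠ n - 1 := fun e => hi (Fin.ext e)
        exact Fin.lt_def.2 (by simp [l]; omega)
      have := hkey i l hlt a l
      rw [if_pos rfl, if_neg hai] at this
      exact this
  have hdiag : ∀ i, (g : M) i i = (g : M) l l := by
    intro i
    by_cases hi : i = l
    · rw [hi]
    · have hlt : i < l := by
        have : (i : ℕ) ≠ n - 1 := fun e => hi (Fin.ext e)
        exact Fin.lt_def.2 (by simp [l]; omega)
      have := hkey i l hlt i l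
      rwa [if_pos rfl, if_pos rfl] at this
  set s := (g : M) l l with hs
  have hs0 : s ≠ 0 := by
    intro e
    refine one_ne_zero (α := F) ?_
    rw [← g.prop]
    refine Matrix.det_eq_zero_of_row_eq_zero l fun c => ?_
    by_cases hlc : l = c
    · rw [← hlc]; exact e
    · exact hoff l c hlc fun h => hne h.1.symm
  set t := (g : M) a₀ l / s with ht
  have hg : (g : M) = s • ((tr hne t : SL) : M) := by
    refine Matrix.ext fun a b => ?_
    rw [Matrix.smul_apply, tr_apply, smul_eq_mul]
    by_cases hab : a = b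
    · subst hab
      rw [if_pos rfl, if_neg (fun h => hne (h.1.symm.trans h.2)), add_zero, mul_one, hdiag]
    · rw [if_neg hab, zero_add]
      split_ifs with h
      · obtain ⟨rfl, rfl⟩ := h
        rw [ht, mul_div_cancel₀ _ hs0]
      · rw [mul_zero, hoff a b hab h]
  have hpow := pow_orderOf_eq_one g
  have h2 : ((g ^ orderOf g : SL) : M) = s ^ orderOf g • (((tr hne t : SL) ^ orderOf g : SL) : M) := by
    rw [Matrix.SpecialLinearGroup.coe_pow, Matrix.SpecialLinearGroup.coe_pow, hg, smul_pow]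
  rw [hpow, tr_pow] at h2
  have h3 := congrFun (congrFun h2 a₀) l
  rw [Matrix.SpecialLinearGroup.coe_one, Matrix.one_apply_ne hne, Matrix.smul_apply, tr_apply,
    if_neg hne, zero_add, if_pos ⟨rfl, rfl⟩, smul_eq_mul, eq_comm, mul_eq_zero] at h3
  have ht0 : t = 0 := by
    rcases h3 with h3 | h3
    · exact absurd h3 (pow_ne_zero _ hs0)
    · exact (mul_eq_zero.1 h3).resolve_left fun e => hreg ((CharP.cast_eq_zero_iff F p _).1 e)
  exact ⟨s, by rw [hg, ht0, Matrix.SpecialLinearGroup.transvection_coeff_zero,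
    Matrix.SpecialLinearGroup.coe_one]⟩

theorem card_roots (k : ℕ) (hk : 0 < k) :
    Nat.card {s : F // s ^ k = 1} = Nat.gcd k (Fintype.card F - 1) := by
  classical
  rw [Nat.gcd_comm, ← Nat.card_eq_fintype_card, ← Nat.card_units, ← IsCyclic.card_powMonoidHom_ker]
  symm
  refine Nat.card_congr
    { toFun := fun u => ⟨(u.1 : F), by
        have := MonoidHom.mem_ker.1 u.2
        rw [powMonoidHom_apply] at this
        rw [← Units.val_pow_eq_pow_val, this, Units.val_one]⟩
      invFun := fun s => ⟨Units.mk0 s.1 (fun e => by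
        have h := s.2
        rw [e, zero_pow hk.ne'] at h
        exact zero_ne_one h), by
          rw [MonoidHom.mem_ker, powMonoidHom_apply]
          exact Units.ext (by rw [Units.val_pow_eq_pow_val]; exact s.2)⟩
      left_inv := fun u => Subtype.ext (Units.ext rfl)
      right_inv := fun s => rfl }

/-- The blocks of full defect are counted by the central elements. -/
theorem card_full (hn : 2 ≤ n) (hM : Cfsg.IsPModular p I) (P : Sylow p SL)
    (hP : (P : Subgroup SL) = U) :
    Nat.card {B : Set (Cfsg.IrrCharacter SL) // Cfsg.IsPBlock I B ∧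
      Cfsg.IsDefectGroup p I B (P : Subgroup SL)} = Nat.gcd n (Fintype.card F - 1) := by
  classical
  rw [card_full_defect_blocks hM P, ← card_roots n (by omega)]
  let i₀ : Fin n := ⟨0, by omega⟩
  have hdet : ∀ s : F, s ^ n = 1 → (s • (1 : M)).det = 1 := fun s hs => by
    rw [Matrix.det_smul, Fintype.card_fin, hs, Matrix.det_one, mul_one]
  let sc : {s : F // s ^ n = 1} → SL := fun s => ⟨s.1 • (1 : M), hdet s.1 s.2⟩
  have hcen : ∀ s g, sc s * g = g * sc s := fun s g => Subtype.ext (by
    show (s.1 • (1 : M)) * (g : M) = (g : M) * (s.1 • (1 : M))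
    rw [Matrix.smul_mul, Matrix.mul_smul, one_mul, mul_one])
  have hN : ∀ s, sc s ∈ Subgroup.normalizer ((P : Subgroup SL) : Set SL) := fun s =>
    Subgroup.centralizer_le_normalizer _ (Subgroup.mem_centralizer_iff.2 fun h _ => (hcen s h).symm)
  have hconj : ∀ s m, ConjClasses.mk m = ConjClasses.mk
      (⟨sc s, hN s⟩ : Subgroup.normalizer ((P : Subgroup SL) : Set SL)) → m = ⟨sc s, hN s⟩ := by
    intro s m h
    obtain ⟨c, hc⟩ := isConj_iff.1 (ConjClasses.mk_eq_mk_iff_isConj.1 h.symm)
    refine Subtype.ext ?_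
    rw [← hc, Subgroup.coe_mul, Subgroup.coe_mul, ← hcen s, Subgroup.coe_inv, mul_inv_cancel_right]
  symm
  refine Nat.card_congr (Equiv.ofBijective (fun s => ⟨ConjClasses.mk ⟨sc s, hN s⟩, fun m hm => ?_⟩) ⟨?_, ?_⟩)
  · rw [hconj s m hm]
    refine ⟨fun h => ?_, Subgroup.mem_centralizer_iff.2 fun h _ => (hcen s h).symm⟩
    rw [← Subgroup.orderOf_coe] at h
    have h1 : orderOf (sc s) ∣ n := orderOf_dvd_of_pow_eq_one (Subtype.ext (by
      rw [Matrix.SpecialLinearGroup.coe_pow]
      show (s.1 • (1 : M)) ^ n = 1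
      rw [smul_pow, one_pow, s.2, one_smul]))
    have h2 : orderOf (sc s) ∣ Fintype.card F - 1 := orderOf_dvd_of_pow_eq_one (Subtype.ext (by
      rw [Matrix.SpecialLinearGroup.coe_pow]
      show (s.1 • (1 : M)) ^ _ = 1
      have : s.1 ≠ 0 := fun e => by
        have h := s.2
        rw [e, zero_pow (by omega)] at h
        exact zero_ne_one h
      rw [smul_pow, one_pow, FiniteField.pow_card_sub_one_eq_one _ this, one_smul]))
    obtain ⟨a, hp, hF⟩ := FiniteField.card F p
    have h5 := Nat.dvd_sub (hF ▸ dvd_pow_self p a.ne_zero : p ∣ Fintype.card F) (h.trans h2)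
    rw [Nat.sub_sub_self Fintype.card_pos] at h5
    exact hp.not_dvd_one h5
  · intro s t h
    have h1 := hconj t ⟨sc s, hN s⟩ (congrArg Subtype.val h)
    have h2 := congrFun (congrFun (congrArg (fun g : SL => (g : M)) (congrArg Subtype.val h1)) i₀) i₀
    exact Subtype.ext (by simpa [sc] using h2)
  · rintro ⟨C, hC⟩
    obtain ⟨m, rfl⟩ := ConjClasses.mk_surjective C
    obtain ⟨hreg, hcm⟩ := hC m rfl
    rw [← Subgroup.orderOf_coe] at hreg
    obtain ⟨s, hs⟩ := scalar_of_centralizes hn hreg fun z hz =>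
      Subgroup.mem_centralizer_iff.1 hcm z (hP ▸ hz)
    have hsn : s ^ n = 1 := by
      have := (m : SL).prop
      rwa [hs, Matrix.det_smul, Fintype.card_fin, Matrix.det_one, mul_one] at this
    refine ⟨⟨s, hsn⟩, Subtype.ext (congrArg ConjClasses.mk (Subtype.ext (Subtype.ext ?_)))⟩
    exact hs.symm

/-- There are `gcd(n, q - 1) + 1` blocks. -/
theorem card_blocks (hn : 2 ≤ n) (hM : Cfsg.IsPModular p I) :
    Nat.card {B : Set (Cfsg.IrrCharacter SL) // Cfsg.IsPBlock I B} =
      Nat.gcd n (Fintype.card F - 1) + 1 := by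
  classical
  obtain ⟨P, hP⟩ := exists_sylow (F := F) p (by omega : 1 ≤ n)
  obtain ⟨St, -, -, -, h0, heq, hall⟩ := exists_defect_zero (F := F) (by omega : 1 ≤ n) hM
  have hB0 : Cfsg.IsPBlock I ({St} : Set (Cfsg.IrrCharacter SL)) := heq ▸ isPBlock_blockOf I St
  have hsplit : ∀ B : {B : Set (Cfsg.IrrCharacter SL) // Cfsg.IsPBlock I B},
      B.1 = {St} ∨ Cfsg.IsDefectGroup p I B.1 (P : Subgroup SL) := fun B =>
    (blockDefect_cases hM P hP B.2).imp (hall _ B.2) And.right
  have hnot : ¬ Cfsg.IsDefectGroup p I ({St} : Set (Cfsg.IrrCharacter SL)) (P : Subgroup SL) := fun h => by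
    have h1 := card_defectGroup hM hB0 h
    rw [show Cfsg.blockDefect p ({St} : Set (Cfsg.IrrCharacter SL)) = 0 by rw [← heq]; exact h0,
      pow_zero, P.card_eq_multiplicity, Nat.pow_eq_one] at h1
    exact h1.elim (Fact.out : p.Prime).ne_one (factorization_pos hn)
  rw [← card_full hn hM P hP, ← Finite.card_option]
  symm
  refine Nat.card_congr (Equiv.ofBijective (fun o => o.elim ⟨{St}, hB0⟩ fun B => ⟨B.1, B.2.1⟩) ⟨?_, ?_⟩)
  · rintro (_ | ⟨B, hB⟩) (_ | ⟨B', hB'⟩) h
    · rfl
    · have e : ({St} : Set (Cfsg.IrrCharacter SL)) = B' := congrArg Subtype.val h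
      rw [← e] at hB'
      exact absurd hB'.2 hnot
    · have e : B = ({St} : Set (Cfsg.IrrCharacter SL)) := congrArg Subtype.val h
      rw [e] at hB
      exact absurd hB.2 hnot
    · exact congrArg some (Subtype.ext (congrArg Subtype.val h :))
  · intro B
    rcases hsplit B with h | h
    · exact ⟨none, Subtype.ext h.symm⟩
    · exact ⟨some ⟨B.1, B.2, h⟩, rfl⟩

/-- A central involution takes the value `±χ(1)`. -/
theorem value_central_involution {G : Type*} [Group G] {χ : G → ℂ} (hχ : Cfsg.IsIrrCharacter G χ)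
    {z : G} (hc : ∀ g, z * g = g * z) (hz : z * z = 1) : χ z = χ 1 ∨ χ z = -χ 1 := by
  obtain ⟨d, σ, hσ, rfl⟩ := hχ
  rcases ((Cfsg.Agent.Characters.isIrreducible_iff σ).1 hσ).2 (Module.End.eigenspace (σ z) 1)
    (fun g v hv => by
      rw [Module.End.mem_eigenspace_iff] at hv ⊢
      rw [← Module.End.mul_apply, ← map_mul, hc, map_mul, Module.End.mul_apply, hv, map_smul]) with h | h
  · right
    have : σ z = -1 := LinearMap.ext fun v => by
      have hmem : σ z v + v ∈ Module.End.eigenspace (σ z) 1 := by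
        rw [Module.End.mem_eigenspace_iff, one_smul, map_add, ← Module.End.mul_apply, ← map_mul, hz,
          map_one, Module.End.one_apply, add_comm]
      rw [h, Submodule.mem_bot, add_eq_zero_iff_eq_neg] at hmem
      exact hmem
    show LinearMap.trace ℂ _ (σ z) = -LinearMap.trace ℂ _ (σ 1)
    rw [this, map_neg, (map_one σ : σ 1 = 1)]
  · left
    have : σ z = 1 := LinearMap.ext fun v => by
      have hmem : v ∈ Module.End.eigenspace (σ z) 1 := h ▸ Submodule.mem_top
      rw [Module.End.mem_eigenspace_iff, one_smul] at hmem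
      exact hmem
    show LinearMap.trace ℂ _ (σ z) = LinearMap.trace ℂ _ (σ 1)
    rw [this, (map_one σ : σ 1 = 1)]

end Cfsg.Agent.SimpleFacts.SLBlocks
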