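import Cfsg.Agent.SimpleFacts.SLBlocks.RankOne
import Cfsg.Agent.SimpleFacts.SubgroupAverage

/-!
An irreducible representation of `SL_n(q)` whose degree is divisible by `|U|` and whose character vanishes
on the non-trivial elements of `U`: it has one line fixed by `U`, fixed by the diagonal elements, and its
matrix coefficient there is determined.
-/

set_option autoImplicit false
set_option linter.unusedSectionVars false
set_option linter.style.haveILetI false
set_option linter.unusedSimpArgs false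
set_option maxHeartbeats 1000000

open Matrix

namespace Cfsg.Agent.SimpleFacts.SLBlocks

open Cfsg.Agent.AutPSL.Roots Cfsg.Agent.SimpleFacts.SubgroupAverage

universe u

variable {F : Type u} [Field F] [Fintype F] {n : ℕ}

local notation "SL" => Matrix.SpecialLinearGroup (Fin n) F
local notation "M" => Matrix (Fin n) (Fin n) F
local notation "U" => (unitriSL (n := n) (F := F))
local notation "tr" => Matrix.SpecialLinearGroup.transvection

variable {V : Type*} [AddCommGroup V] [Module ℂ V] [FiniteDimensional ℂ V]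
  (ρ : Representation ℂ ↥(⊤ : Subgroup (Matrix.SpecialLinearGroup (Fin n) F)) V)

theorem am (a b : SL) (x : V) : act ρ (a * b) x = act ρ a (act ρ b x) :=
  act_mul_apply ρ trivial trivial x

/-- An element normalising `S` commutes with the averaging over `S`. -/
theorem act_avg_comm (S : Subgroup SL) [Fintype ↥S] {y : SL}
    (hy : ∀ z ∈ S, y * z * y⁻¹ ∈ S) (x : V) :
    act ρ y (avg ρ S (fun _ => (1 : ℂ)) x) = avg ρ S (fun _ => (1 : ℂ)) (act ρ y x) := by
  simp only [avg, LinearMap.smul_apply, map_smul, LinearMap.sum_apply, map_sum, one_smul]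
  congr 1
  let e : ↥S → ↥S := fun z => ⟨y * z.1 * y⁻¹, hy _ z.2⟩
  have he : Function.Bijective e := Function.Injective.bijective_of_finite fun a b h => by
    have h' : y * a.1 * y⁻¹ = y * b.1 * y⁻¹ := congrArg Subtype.val h
    exact Subtype.ext (mul_left_cancel (mul_right_cancel h'))
  refine Fintype.sum_equiv (Equiv.ofBijective e he) _ _ fun z => ?_
  rw [Equiv.ofBijective_apply, ← am, ← am]
  congr 2
  show y * z.1 = y * z.1 * y⁻¹ * y
  rw [inv_mul_cancel_right]

/-- The averaging over `S` absorbs that over a subgroup of `S`. -/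
theorem avg_avg (S T : Subgroup SL) [Fintype ↥S] [Fintype ↥T] (hTS : T ≤ S) (x : V) :
    avg ρ S (fun _ => (1 : ℂ)) (avg ρ T (fun _ => (1 : ℂ)) x) = avg ρ S (fun _ => (1 : ℂ)) x := by
  have h : ∀ z : ↥T, avg ρ S (fun _ => (1 : ℂ)) (act ρ (z : SL) x) = avg ρ S (fun _ => (1 : ℂ)) x :=
    fun z => by
      rw [avg_apply_act ρ le_top rfl (fun _ _ _ _ => (one_mul 1).symm) (hTS z.2), one_smul]
  conv_lhs => arg 2; rw [avg]
  simp only [LinearMap.smul_apply, map_smul, LinearMap.sum_apply, map_sum, one_smul, h,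
    Finset.sum_const, Finset.card_univ, ← Nat.card_eq_fintype_card]
  rw [← Nat.cast_smul_eq_nsmul ℂ, smul_smul, inv_mul_cancel₀ (Nat.cast_ne_zero.2 Nat.card_pos.ne'),
    one_smul]

/-- The linear character of `U` with coefficients `a` at the neighbouring positions. -/
noncomputable def psi (χ : AddChar F ℂ) (a : Fin n → F) (g : SL) : ℂ :=
  χ (∑ i, ∑ j, if Adj i j then a i * (g : M) i j else 0)

theorem psi_one (χ : AddChar F ℂ) (a : Fin n → F) : psi χ a (1 : SL) = 1 := by
  rw [psi, Finset.sum_eq_zero, AddChar.map_zero_eq_one]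
  intro i _
  refine Finset.sum_eq_zero fun j _ => ?_
  split_ifs with h
  · rw [Matrix.SpecialLinearGroup.coe_one, Matrix.one_apply_ne h.ne, mul_zero]
  · rfl

theorem psi_mul (χ : AddChar F ℂ) (a : Fin n → F) {g g' : SL} (hg : g ∈ U) (hg' : g' ∈ U) :
    psi χ a (g * g') = psi χ a g * psi χ a g' := by
  simp only [psi, ← AddChar.map_add_eq_mul, ← Finset.sum_add_distrib]
  congr 1
  refine Finset.sum_congr rfl fun i _ => Finset.sum_congr rfl fun j _ => ?_
  split_ifs with h
  · rw [mul_apply_adj hg hg' h, mul_add]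
  · rw [add_zero]

theorem psi_tr (χ : AddChar F ℂ) (a : Fin n → F) {i j : Fin n} (h : Adj i j) (t : F) :
    psi χ a (tr h.ne t : SL) = χ (a i * t) := by
  rw [psi]
  congr 1
  rw [Finset.sum_eq_single i, Finset.sum_eq_single j, if_pos h, tr_apply, if_neg h.ne,
    if_pos ⟨rfl, rfl⟩, zero_add]
  · intro c _ hc
    rw [if_neg fun h' : Adj i c => hc (Fin.ext (by unfold Adj at h h'; omega))]
  · simp
  · intro c _ hc
    refine Finset.sum_eq_zero fun b _ => ?_
    split_ifs with hb
    · rw [tr_apply, if_neg hb.ne, if_neg (fun e => hc e.1), add_zero, mul_zero]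
    · rfl
  · simp

/-- The longest permutation is the only one reversing every neighbouring pair. -/
theorem eq_rev {π : Equiv.Perm (Fin n)}
    (h : ∀ i j, Adj i j → π⁻¹ j < π⁻¹ i) : π = Fin.revPerm := by
  have hanti : ∀ i j : Fin n, i < j → π⁻¹ j < π⁻¹ i := by
    suffices ∀ d : ℕ, ∀ i j : Fin n, (i : ℕ) + d + 1 = j → π⁻¹ j < π⁻¹ i from fun i j hij =>
      this ((j : ℕ) - i - 1) i j (by have : (i : ℕ) < j := hij; omega)
    intro d
    induction d with
    | zero => exact fun i j hij => h i j hij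
    | succ d ih =>
      intro i j hij
      have hk : (i : ℕ) + 1 < n := by have := j.isLt; omega
      exact (ih ⟨(i : ℕ) + 1, hk⟩ j (by show (i : ℕ) + 1 + d + 1 = j; omega)).trans
        (h i ⟨(i : ℕ) + 1, hk⟩ rfl)
  have h1 : Fin.revPerm.trans π⁻¹ = 1 := eq_one_of_monotone fun a b hab =>
    hanti _ _ (Fin.rev_lt_rev.2 hab)
  refine Equiv.ext fun x => ?_
  have h2 := congrArg π (Equiv.congr_fun h1 x)
  simpa using h2.symm

/-- A neighbouring pair inverted by a non-trivial permutation. -/
theorem exists_descent {π : Equiv.Perm (Fin n)} (h : π ≠ 1) :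
    ∃ i j, Adj i j ∧ π⁻¹ j < π⁻¹ i := by
  by_contra hne
  simp only [not_exists, not_and, not_lt] at hne
  refine h (inv_eq_one.1 (eq_one_of_monotone ?_))
  have : ∀ d : ℕ, ∀ i j : Fin n, (i : ℕ) + d + 1 = j → π⁻¹ i < π⁻¹ j := by
    intro d
    induction d with
    | zero =>
      intro i j hij
      exact lt_of_le_of_ne (hne i j hij) fun e => by
        have := congrArg Fin.val ((π⁻¹).injective e)
        omega
    | succ d ih =>
      intro i j hij
      have hk : (i : ℕ) + 1 < n := by have := j.isLt; omega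
      refine lt_trans (lt_of_le_of_ne (hne i ⟨(i : ℕ) + 1, hk⟩ rfl) fun e => ?_)
        (ih ⟨(i : ℕ) + 1, hk⟩ j (by show (i : ℕ) + 1 + d + 1 = j; omega))
      have := congrArg Fin.val ((π⁻¹).injective e)
      simp at this
  exact fun i j hij => this ((j : ℕ) - i - 1) i j (by have : (i : ℕ) < j := hij; omega)

theorem tr_fix {v : V} (hv : ∀ g ∈ U, act ρ g v = v) {m : SL} {π : Equiv.Perm (Fin n)}
    (hm : IsMono m π) {i j : Fin n} (hij : i ≠ j) (hπ : π⁻¹ i < π⁻¹ j) (t : F) :
    act ρ (tr hij t) (act ρ m v) = act ρ m v := by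
  have h := hm.inv.conj_tr hij t
  rw [← am, show tr hij t * m = m * ((m⁻¹ * tr hij t) * m) by group, h, inv_mul_cancel_right, am,
    hv _ (tr_mem_U _ _ hπ)]

variable [Fintype ↥(unitriSL (n := n) (F := F))]

/-- The data of the fixed line. -/
structure Line (ρ : Representation ℂ ↥(⊤ : Subgroup (Matrix.SpecialLinearGroup (Fin n) F)) V) where
  v : V
  φ : V → ℂ
  v_ne : v ≠ 0
  proj : ∀ x, avg ρ (unitriSL (n := n) (F := F)) (fun _ => (1 : ℂ)) x = φ x • v
  fix : ∀ g ∈ unitriSL (n := n) (F := F), act ρ g v = v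
  diag : ∀ d : Matrix.SpecialLinearGroup (Fin n) F, IsMono d 1 → act ρ d v = v
  rank_one : ∀ (i j : Fin n) (h : Adj i j),
    φ (act ρ (emb h.ne w2) v) = -(Fintype.card F : ℂ)⁻¹
  dim : Module.finrank ℂ V = Nat.card ↥(unitriSL (n := n) (F := F))

theorem exists_line [ρ.IsIrreducible] (hdvd : Nat.card ↥U ∣ Module.finrank ℂ V)
    (hvan : ∀ g ∈ U, g ≠ 1 → LinearMap.trace ℂ V (act ρ g) = 0) : Nonempty (Line ρ) := by
  classical
  have hone : ∀ a ∈ U, ∀ b ∈ U, (fun _ : SL => (1 : ℂ)) (a * b) = (fun _ => (1 : ℂ)) a * (fun _ => (1 : ℂ)) b :=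
    fun _ _ _ _ => (one_mul 1).symm
  have hUG : U ≤ (⊤ : Subgroup SL) := le_top
  haveI := Cfsg.Agent.Characters.nontrivial_of_isIrreducible ρ
  have hd : 0 < Module.finrank ℂ V := Module.finrank_pos
  set W := LinearMap.range (avg ρ U fun _ => (1 : ℂ)) with hWdef
  have hW : W ≠ ⊥ := by
    intro e
    have := finrank_avg_of_vanish ρ hUG (f := fun _ => (1 : ℂ)) rfl hone hvan
    rw [← hWdef, e, finrank_bot, zero_mul] at this
    omega
  have hfix : ∀ w : V, w ∈ W ↔ ∀ g ∈ U, act ρ g w = w := by
    intro w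
    refine ⟨?_, fun h => ⟨w, avg_eq_self ρ rfl hone fun g hg => by rw [h g hg, one_smul]⟩⟩
    rintro ⟨y, rfl⟩ g hg
    rw [act_avg_apply ρ hUG (f := fun _ => (1 : ℂ)) rfl hone hg, one_smul]
  have hdU : ∀ d : SL, IsMono d 1 → ∀ g ∈ U, d⁻¹ * g * d ∈ U := by
    intro d hd g hg
    refine ⟨fun a b hab => ?_, fun a => ?_⟩
    · have h3 := hd.conj_apply' g a b
      simp only [Equiv.Perm.one_apply, hg.1 _ _ hab, zero_mul] at h3
      exact (mul_eq_zero.1 h3).resolve_left (hd.ent_ne a)
    · have h3 := hd.conj_apply' g a a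
      simp only [Equiv.Perm.one_apply, hg.2, one_mul] at h3
      exact mul_left_cancel₀ (hd.ent_ne a) (h3.trans (mul_one _).symm)
  obtain ⟨v, hvW, hv0, heig⟩ := exists_common_eigenvector
    {a : Module.End ℂ V | ∃ d : SL, IsMono d 1 ∧ a = act ρ d}
    (by
      refine (Set.Finite.image (act ρ) (Set.toFinite (Set.univ : Set SL))).subset ?_
      rintro a ⟨d, -, rfl⟩
      exact ⟨d, trivial, rfl⟩)
    (by
      rintro a ⟨d, hd, rfl⟩ b ⟨e, he, rfl⟩
      rw [← act_mul ρ trivial trivial, ← act_mul ρ trivial trivial]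
      congr 1
      refine Subtype.ext (Matrix.ext fun x y => ?_)
      show ((d * e : SL) : M) x y = ((e * d : SL) : M) x y
      have h1 := hd.mul_apply e x y
      have h2 := he.mul_apply d x y
      simp only [Equiv.Perm.one_apply] at h1 h2
      rw [h1, h2, he.apply, hd.apply]
      by_cases hxy : x = y <;> simp [hxy, mul_comm])
    hW (by
      rintro a ⟨d, hd, rfl⟩ w hw
      rw [hfix] at hw ⊢
      intro g hg
      rw [← am, show g * d = d * (d⁻¹ * g * d) by group, am, hw _ (hdU d hd g hg)])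
  have hvU := (hfix v).1 hvW
  obtain ⟨m₀, hm₀⟩ := exists_isMono (F := F) (Fin.revPerm : Equiv.Perm (Fin n))
  -- Whittaker vectors
  have hψline : ∀ (χ : AddChar F ℂ) (a : Fin n → F), (∀ i j, Adj i j → ∃ t, χ (a i * t) ≠ 1) →
      LinearMap.range (avg ρ U (psi χ a)) ≤ Submodule.span ℂ {avg ρ U (psi χ a) (act ρ m₀ v)} := by
    intro χ a hnd
    have hf1 := psi_one (n := n) χ a
    have hfm : ∀ g ∈ U, ∀ g' ∈ U, psi χ a (g * g') = psi χ a g * psi χ a g' :=
      fun g hg g' hg' => psi_mul χ a hg hg'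
    rw [LinearMap.range_eq_map, ← span_orbit ρ hv0, Submodule.map_span, Submodule.span_le]
    rintro _ ⟨_, ⟨g, -, rfl⟩, rfl⟩
    obtain ⟨g₁, hg₁, π, m, hm, g₂, hg₂, rfl⟩ := exists_bruhat g
    rw [am, hvU g₂ hg₂, am, avg_apply_act ρ hUG hf1 hfm hg₁]
    refine Submodule.smul_mem _ _ ?_
    by_cases htop : ∀ i j, Adj i j → π⁻¹ j < π⁻¹ i
    · obtain rfl := eq_rev htop
      obtain ⟨c, hc⟩ := heig _ ⟨m₀⁻¹ * m, hm.diag_div hm₀, rfl⟩
      rw [show m = m₀ * (m₀⁻¹ * m) by group, am, hc, map_smul, map_smul]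
      exact Submodule.smul_mem _ _ (Submodule.subset_span rfl)
    · simp only [not_forall, not_lt] at htop
      obtain ⟨i, j, hij, hle⟩ := htop
      obtain ⟨t, ht⟩ := hnd i j hij
      have hlt : π⁻¹ i < π⁻¹ j := lt_of_le_of_ne hle fun e => hij.ne ((π⁻¹).injective e)
      have e4 := avg_apply_act ρ hUG hf1 hfm (tr_mem_U hij.ne t hij.lt) (act ρ m v)
      rw [tr_fix ρ hvU hm hij.ne hlt, psi_tr χ a hij] at e4
      have e5 : avg ρ U (psi χ a) (act ρ m v) = 0 := by
        by_contra hne
        refine ht (smul_left_injective ℂ hne ?_)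
        show χ _ • _ = (1 : ℂ) • _
        rw [one_smul]; exact e4.symm
      rw [e5]
      exact Submodule.zero_mem _
  obtain ⟨χ, hχ⟩ : ∃ χ : AddChar F ℂ, χ (1 : F) ≠ 1 := AddChar.exists_apply_ne_zero.2 one_ne_zero
  have hprim : χ.IsPrimitive := AddChar.IsPrimitive.of_ne_one fun e => hχ (by rw [e]; rfl)
  have hnd : ∀ a : Fin n → F, (∀ i, a i ≠ 0) → ∀ i j : Fin n, Adj i j → ∃ t, χ (a i * t) ≠ 1 :=
    fun a ha i _ _ => ⟨(a i)⁻¹, by rwa [mul_inv_cancel₀ (ha i)]⟩
  -- the multiplicity is one
  obtain ⟨k, hk⟩ := hdvd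
  have hk1 : k = 1 := by
    have h2 := finrank_avg_of_vanish ρ hUG (psi_one χ (fun _ => 1))
      (fun g hg g' hg' => psi_mul χ _ hg hg') hvan
    rw [hk, mul_comm] at h2
    have h3 := Nat.eq_of_mul_eq_mul_left Nat.card_pos h2
    have h4 := (Submodule.finrank_mono (hψline χ _ (hnd _ fun _ => one_ne_zero))).trans
      (finrank_span_le_card _)
    simp only [Set.toFinset_singleton, Finset.card_singleton] at h4
    have : 0 < k := by
      rcases Nat.eq_zero_or_pos k with e | e
      · rw [e, mul_zero] at hk; omega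
      · exact e
    omega
  rw [hk1, mul_one] at hk
  have hψne : ∀ a : Fin n → F, (∀ i, a i ≠ 0) → ∀ m : SL, IsMono m Fin.revPerm →
      avg ρ U (psi χ a) (act ρ m v) ≠ 0 := by
    intro a ha m hm
    obtain ⟨c, hc⟩ := heig _ ⟨m₀⁻¹ * m, hm.diag_div hm₀, rfl⟩
    have hc0 : c ≠ 0 := fun e => act_ne_zero ρ (Subgroup.mem_top _) hv0 (by rw [hc, e, zero_smul])
    rw [show m = m₀ * (m₀⁻¹ * m) by group, am, hc, map_smul, map_smul]
    refine smul_ne_zero hc0 fun e => ?_
    have h1 := hψline χ a (hnd a ha)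
    rw [e, Submodule.span_zero_singleton, le_bot_iff] at h1
    have h2 := finrank_avg_of_vanish ρ hUG (psi_one χ a) (fun g hg g' hg' => psi_mul χ a hg hg') hvan
    rw [h1, finrank_bot, zero_mul] at h2
    omega
  have hline : W = Submodule.span ℂ {v} := by
    have h2 := finrank_avg_of_vanish ρ hUG (f := fun _ => (1 : ℂ)) rfl hone hvan
    rw [hk, ← hWdef] at h2
    have h3 : Module.finrank ℂ W = 1 :=
      Nat.eq_of_mul_eq_mul_right Nat.card_pos (h2.trans (one_mul _).symm)
    refine (Submodule.eq_of_le_of_finrank_le ((Submodule.span_singleton_le_iff_mem _ _).2 hvW) ?_).symm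
    rw [h3, finrank_span_singleton hv0]
  have hφex : ∀ x, ∃ c : ℂ, avg ρ U (fun _ => (1 : ℂ)) x = c • v := by
    intro x
    have : avg ρ U (fun _ => (1 : ℂ)) x ∈ Submodule.span ℂ {v} := hline ▸ LinearMap.mem_range_self _ x
    obtain ⟨c, hc⟩ := Submodule.mem_span_singleton.1 this
    exact ⟨c, hc.symm⟩
  choose φ hφ using hφex
  -- the rank one argument
  have hrank : ∀ (i j : Fin n) (h : Adj i j),
      φ (act ρ (emb h.ne w2) v) = -(Fintype.card F : ℂ)⁻¹ ∧
      ∀ a : Fˣ, act ρ (emb h.ne (h2 a)) v = v := by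
    intro i j hij
    have hxU : ∀ s : F, (tr hij.ne s : SL) ∈ U := fun s => tr_mem_U _ _ hij.lt
    obtain ⟨w, hwd⟩ : ∃ w : F → V, w = fun s => act ρ (tr hij.ne s) (act ρ (emb hij.ne w2) v) :=
      ⟨_, rfl⟩
    have htradd : ∀ r s : F, (tr hij.ne r : SL) * tr hij.ne s = tr hij.ne (r + s) := fun r s => by
      have : x2 r * x2 s = x2 (r + s) := by
        refine Subtype.ext ?_
        show (x2 r).1 * (x2 s).1 = (x2 (r + s)).1
        ext a b
        fin_cases a <;> fin_cases b <;> simp [x2, Matrix.mul_apply, Fin.sum_univ_two, add_comm]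
      rw [← emb_x2, ← emb_x2, ← map_mul, this, emb_x2]
    have hwt : ∀ r s : F, act ρ (tr hij.ne r) (w s) = w (r + s) := fun r s => by
      rw [hwd]; dsimp only
      rw [← htradd, am]
    have hw0 : w 0 = act ρ (emb hij.ne w2) v := by
      rw [hwd]; dsimp only
      rw [Matrix.SpecialLinearGroup.transvection_coeff_zero, act_one]; rfl
    -- the Fourier sums along the root do not vanish
    have hE : ∀ a : F, a ≠ 0 → ∑ s : F, χ (-(a * s)) • w s ≠ 0 := by
      intro a ha hzero
      obtain ⟨m, hm⟩ := exists_isMono (F := F) (Fin.revPerm * Equiv.swap i j : Equiv.Perm (Fin n))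
      have hmi : (Fin.revPerm * Equiv.swap i j : Equiv.Perm (Fin n)) i = Fin.rev j := by simp
      have hmj : (Fin.revPerm * Equiv.swap i j : Equiv.Perm (Fin n)) j = Fin.rev i := by simp
      have hadj : Adj (Fin.rev j) (Fin.rev i) := by
        unfold Adj at hij ⊢
        simp only [Fin.val_rev]
        have := j.isLt
        omega
      obtain ⟨c, hc0, hc⟩ : ∃ c : F, c ≠ 0 ∧ ∀ s, m * tr hij.ne s = tr hadj.ne (c * s) * m := by
        refine ⟨ent m (Fin.revPerm * Equiv.swap i j) i / ent m (Fin.revPerm * Equiv.swap i j) j,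
          div_ne_zero (hm.ent_ne _) (hm.ent_ne _), fun s => ?_⟩
        have := hm.conj_tr hij.ne s
        simp only [hmi, hmj] at this
        rw [this]
        congr 2
        ring
      let α : Fin n → F := fun k => if k = Fin.rev j then a * c⁻¹ else 1
      have hα : ∀ k, α k ≠ 0 := fun k => by
        simp only [α]; split_ifs <;> simp [ha, hc0]
      have hmn : IsMono (m * emb hij.ne w2) Fin.revPerm := by
        have := hm.mul (isMono_w (F := F) hij.ne)
        rwa [mul_assoc, Equiv.swap_mul_self, mul_one] at this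
      refine hψne α hα _ hmn ?_
      have key : ∀ s : F, avg ρ U (psi χ α) (act ρ m (w s)) =
          χ (a * s) • avg ρ U (psi χ α) (act ρ (m * emb hij.ne w2) v) := by
        intro s
        rw [hwd]; dsimp only
        rw [← am ρ m, hc, am, ← am ρ m, avg_apply_act ρ le_top (psi_one χ α)
          (fun g hg g' hg' => psi_mul χ α hg hg') (tr_mem_U _ _ hadj.lt), psi_tr χ α hadj]
        congr 2
        simp only [α, if_true]
        field_simp
      have h2 := congrArg (fun x => avg ρ U (psi χ α) (act ρ m x)) hzero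
      simp only [map_sum, map_smul, key, smul_smul, map_zero] at h2
      rw [← Finset.sum_smul] at h2
      have h3 : ∑ s : F, χ (-(a * s)) * χ (a * s) = (Fintype.card F : ℂ) := by
        simp only [← AddChar.map_add_eq_mul, neg_add_cancel, AddChar.map_zero_eq_one, Finset.sum_const,
          Finset.card_univ, nsmul_eq_mul, mul_one]
      rw [h3] at h2
      exact (smul_eq_zero.1 h2).resolve_left (Nat.cast_ne_zero.2 Fintype.card_ne_zero)
    -- any relation is constant along the root
    have hrel : ∀ (g : ℂ) (c : F → ℂ), g • v + ∑ t : F, c t • w t = 0 →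
        ∀ t : F, c t = c 0 := by
      intro g c hgc
      have hz : ∀ a : F, a ≠ 0 → ∑ t : F, c t * χ (a * t) = 0 := by
        intro a ha
        have h1 := congrArg (fun x => ∑ s : F, χ (-(a * s)) • act ρ (tr hij.ne s) x) hgc
        simp only [map_add, map_smul, map_sum, map_zero, smul_zero, Finset.sum_const_zero, hwt,
          hvU _ (hxU _), smul_add, Finset.smul_sum, smul_smul, Finset.sum_add_distrib] at h1
        rw [← Finset.sum_smul, ← Finset.sum_mul, Finset.sum_comm] at h1
        have hv' : ∑ s : F, χ (-(a * s)) = 0 := by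
          have h := AddChar.sum_mulShift (-a) hprim
          rw [if_neg (neg_ne_zero.2 ha)] at h
          rw [← Nat.cast_zero, ← h]
          exact Finset.sum_congr rfl fun s _ => by congr 1; ring
        rw [hv', zero_mul, zero_smul, zero_add] at h1
        have h2 : ∀ t : F, ∑ s : F, (χ (-(a * s)) * c t) • w (s + t) =
            (c t * χ (a * t)) • ∑ s : F, χ (-(a * s)) • w s := by
          intro t
          rw [Finset.smul_sum]
          refine Fintype.sum_equiv (Equiv.addRight t) _ _ fun s => ?_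
          rw [smul_smul, Equiv.coe_addRight]
          congr 1
          rw [mul_assoc, ← AddChar.map_add_eq_mul, show a * t + -(a * (s + t)) = -(a * s) by ring,
            mul_comm]
        rw [Finset.sum_congr rfl fun t _ => h2 t, ← Finset.sum_smul] at h1
        exact (smul_eq_zero.1 h1).resolve_right (hE a ha)
      have hc : ∀ t₀ : F, (Fintype.card F : ℂ) * c t₀ = ∑ t : F, c t := by
        intro t₀
        have h1 : ∑ a : F, χ (-(a * t₀)) * ∑ t : F, c t * χ (a * t) = ∑ t : F, c t := by
          rw [Finset.sum_eq_single (0 : F) (fun a _ ha => by rw [hz a ha, mul_zero])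
            (fun hh => absurd (Finset.mem_univ _) hh)]
          simp
        rw [← h1]
        simp only [Finset.mul_sum]
        rw [Finset.sum_comm, Finset.sum_eq_single t₀]
        · have h3 : ∀ a : F, χ (-(a * t₀)) * (c t₀ * χ (a * t₀)) = c t₀ := fun a => by
            rw [mul_left_comm, ← AddChar.map_add_eq_mul, neg_add_cancel, AddChar.map_zero_eq_one,
              mul_one]
          rw [Finset.sum_congr rfl fun a _ => h3 a, Finset.sum_const, Finset.card_univ, nsmul_eq_mul]
        · intro t _ ht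
          have h4 := AddChar.sum_mulShift (t - t₀) hprim
          rw [if_neg (sub_ne_zero.2 ht), Nat.cast_zero] at h4
          have h5 : ∀ a : F, χ (-(a * t₀)) * (c t * χ (a * t)) = c t * χ (a * (t - t₀)) := fun a => by
            rw [mul_left_comm, ← AddChar.map_add_eq_mul, show -(a * t₀) + a * t = a * (t - t₀) by ring]
          rw [Finset.sum_congr rfl fun a _ => h5 a, ← Finset.mul_sum, h4, mul_zero]
        · intro hh; exact absurd (Finset.mem_univ _) hh
      intro t
      exact mul_left_cancel₀ (Nat.cast_ne_zero.2 Fintype.card_ne_zero) ((hc t).trans (hc 0).symm)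
    -- the vectors lie in a space of dimension `q`
    haveI : Fintype ↥(rootKer (F := F) hij) := Fintype.ofFinite _
    have hdim : Module.finrank ℂ (LinearMap.range (avg ρ (rootKer hij) fun _ => (1 : ℂ))) =
        Fintype.card F := by
      have h := finrank_avg_of_vanish ρ (S := rootKer (F := F) hij) le_top (f := fun _ => (1 : ℂ)) rfl
        (fun _ _ _ _ => (one_mul 1).symm) (fun g hg => hvan g (rootKer_le hij hg))
      rw [hk, card_U_eq hij, mul_comm (Nat.card ↥(rootKer (F := F) hij))] at h
      exact Nat.eq_of_mul_eq_mul_right Nat.card_pos h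
    have hmem : ∀ x : V, (∀ g ∈ rootKer hij, act ρ g x = x) →
        x ∈ LinearMap.range (avg ρ (rootKer hij) fun _ => (1 : ℂ)) := fun x hx =>
      ⟨x, avg_eq_self ρ rfl (fun _ _ _ _ => (one_mul 1).symm) fun g hg => by rw [hx g hg, one_smul]⟩
    have hnorm : ∀ y : SL, (∀ z ∈ rootKer hij, y * z * y⁻¹ ∈ rootKer hij) →
        ∀ x ∈ LinearMap.range (avg ρ (rootKer hij) fun _ => (1 : ℂ)),
          act ρ y x ∈ LinearMap.range (avg ρ (rootKer hij) fun _ => (1 : ℂ)) := by
      rintro y hy _ ⟨x, rfl⟩
      exact ⟨act ρ y x, (act_avg_comm ρ _ hy x).symm⟩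
    have hvW0 := hmem v fun g hg => hvU g (rootKer_le hij hg)
    have hwW0 : ∀ s, w s ∈ LinearMap.range (avg ρ (rootKer hij) fun _ => (1 : ℂ)) := fun s => by
      rw [hwd]
      exact hnorm _ (fun z hz => tr_conj_rootKer hij s hz) _
        (hnorm _ (fun z hz => w_conj_rootKer hij hz) _ hvW0)
    obtain ⟨g, c, hgc, hne⟩ : ∃ (g : ℂ) (c : F → ℂ), g • v + ∑ t : F, c t • w t = 0 ∧
        (g ≠ 0 ∨ ∃ t, c t ≠ 0) := by
      let z : Option F → LinearMap.range (avg ρ (rootKer hij) fun _ => (1 : ℂ)) := fun o =>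
        o.elim ⟨v, hvW0⟩ fun t => ⟨w t, hwW0 t⟩
      have hli : ¬ LinearIndependent ℂ z := fun h => by
        have := h.fintype_card_le_finrank
        rw [hdim, Fintype.card_option] at this
        omega
      obtain ⟨g, hg, o, ho⟩ := Fintype.not_linearIndependent_iff.1 hli
      refine ⟨g none, fun t => g (some t), ?_, ?_⟩
      · have h2 := congrArg Subtype.val hg
        simp only [Fintype.sum_option, Submodule.coe_add, Submodule.coe_sum, Submodule.coe_smul, z,
          Option.elim, ZeroMemClass.coe_zero] at h2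
        exact h2
      · cases o with
        | none => exact Or.inl ho
        | some t => exact Or.inr ⟨t, ho⟩
    have hcc := hrel g c hgc
    have hc0 : c 0 ≠ 0 := by
      intro e
      simp only [hcc, e, zero_smul, Finset.sum_const_zero, add_zero] at hgc
      rcases hne with h | ⟨t, ht⟩
      · exact h ((smul_eq_zero.1 hgc).resolve_right hv0)
      · exact ht (by rw [hcc t, e])
    obtain ⟨lam, hlam⟩ : ∃ lam : ℂ, ∑ t : F, w t = lam • v := by
      refine ⟨-g / c 0, ?_⟩
      simp only [hcc, ← Finset.smul_sum] at hgc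
      rw [add_comm, add_eq_zero_iff_eq_neg] at hgc
      have := congrArg (fun x => (c 0)⁻¹ • x) hgc
      simp only [smul_smul, inv_mul_cancel₀ hc0, one_smul, smul_neg, ← neg_smul] at this
      rw [this]
      congr 1
      rw [neg_div, div_eq_inv_mul, mul_neg]
    -- the values of the eigencharacter on the coroot
    have hex : ∀ a : Fˣ, ∃ θ : ℂ, act ρ (emb hij.ne (h2 a)) v = θ • v := fun a =>
      heig _ ⟨_, isMono_h hij.ne a, rfl⟩
    choose θ hθ using hex
    have hθmul : ∀ a b : Fˣ, θ (a * b) = θ a * θ b := by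
      intro a b
      refine smul_left_injective ℂ hv0 ?_
      show θ (a * b) • v = (θ a * θ b) • v
      have e : h2 (a * b) = h2 a * h2 b := by
        refine Subtype.ext ?_
        show (h2 (a * b)).1 = (h2 a).1 * (h2 b).1
        ext x y
        fin_cases x <;> fin_cases y <;> simp [h2, Matrix.mul_apply, Fin.sum_univ_two, mul_comm]
      rw [← hθ, e, map_mul, am, hθ, map_smul, hθ, smul_smul, mul_comm]
    have hnw : ∀ t : Fˣ, act ρ (emb hij.ne w2) (w (t : F)) = θ (-t) • w (-(↑t⁻¹ : F)) := by
      intro t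
      rw [hwd]; dsimp only
      rw [← emb_x2, ← am ρ (emb hij.ne w2), ← map_mul, ← am, ← map_mul, w2_x2, map_mul, map_mul, map_mul,
        emb_x2, am, hvU _ (hxU _), am, hθ, map_smul, am]
    have hnw0 : act ρ (emb hij.ne w2) (w 0) = θ (-1) • v := by
      rw [hw0, ← am, ← map_mul, w2_sq, hθ]
    have hrel2 : θ (-1) • v +
        ∑ s : F, (if hs : s = 0 then -lam else θ (Units.mk0 s hs)⁻¹) • w s = 0 := by
      have h1 := congrArg (act ρ (emb hij.ne w2)) hlam
      rw [map_sum, map_smul, ← hw0, ← Finset.add_sum_erase _ _ (Finset.mem_univ (0 : F)), hnw0] at h1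
      rw [← Finset.add_sum_erase _ _ (Finset.mem_univ (0 : F)), dif_pos rfl]
      have h2 : ∑ t ∈ Finset.univ.erase (0 : F), act ρ (emb hij.ne w2) (w t) =
          ∑ s ∈ Finset.univ.erase (0 : F), (if hs : s = 0 then -lam else θ (Units.mk0 s hs)⁻¹) • w s := by
        refine Finset.sum_bij (fun t _ => -t⁻¹) (fun t ht => ?_) (fun a _ b _ e => ?_) (fun s hs => ?_)
          (fun t ht => ?_)
        · exact Finset.mem_erase.2 ⟨neg_ne_zero.2 (inv_ne_zero (Finset.mem_erase.1 ht).1), Finset.mem_univ _⟩
        · exact inv_injective (neg_injective e)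
        · exact ⟨-s⁻¹, Finset.mem_erase.2 ⟨neg_ne_zero.2 (inv_ne_zero (Finset.mem_erase.1 hs).1),
            Finset.mem_univ _⟩, by simp [inv_neg]⟩
        · have ht0 := (Finset.mem_erase.1 ht).1
          rw [dif_neg (neg_ne_zero.2 (inv_ne_zero ht0))]
          have := hnw (Units.mk0 t ht0)
          simp only [Units.val_mk0, Units.val_inv_eq_inv_val] at this
          rw [this]
          congr 2
          apply Units.ext
          simp [inv_neg]
      rw [← h2, ← add_assoc, add_comm (θ (-1) • v), add_assoc, h1, neg_smul, neg_add_cancel]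
    have hcon := hrel (θ (-1)) _ hrel2
    have hθc : ∀ a : Fˣ, θ a = -lam := by
      intro a
      have := hcon (↑a⁻¹ : F)
      rw [dif_neg (Units.ne_zero _), dif_pos rfl] at this
      rw [← this]
      congr 1
      apply Units.ext
      simp
    have hθ1 : θ 1 = 1 := by
      refine smul_left_injective ℂ hv0 ?_
      show θ 1 • v = (1 : ℂ) • v
      rw [← hθ, one_smul]
      have : h2 (1 : Fˣ) = 1 := by
        refine Subtype.ext ?_
        show (h2 (1 : Fˣ)).1 = 1
        ext x y
        fin_cases x <;> fin_cases y <;> simp [h2]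
      rw [this, map_one, act_one]; rfl
    have hlam1 : lam = -1 := by
      have := hθc 1
      rw [hθ1] at this
      linear_combination this
    refine ⟨?_, fun a => by rw [hθ, hθc, hlam1, neg_neg, one_smul]⟩
    have h1 := congrArg (avg ρ U fun _ => (1 : ℂ)) hlam
    have hc1 : ∀ s, avg ρ U (fun _ => (1 : ℂ)) (w s) = φ (act ρ (emb hij.ne w2) v) • v := fun s => by
      rw [hwd]; dsimp only
      rw [avg_apply_act ρ hUG rfl hone (hxU s), one_smul, hφ]
    simp only [map_sum, map_smul, hc1, Finset.sum_const, Finset.card_univ] at h1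
    rw [avg_eq_self ρ rfl hone fun g hg => by rw [hvU g hg, one_smul], ← Nat.cast_smul_eq_nsmul ℂ,
      smul_smul, hlam1] at h1
    have h2 := smul_left_injective ℂ hv0 h1
    have hq : (Fintype.card F : ℂ) ≠ 0 := Nat.cast_ne_zero.2 Fintype.card_ne_zero
    field_simp
    linear_combination h2
  refine ⟨⟨v, φ, hv0, hφ, hvU, fun d hd => ?_, fun i j h => (hrank i j h).1, hk⟩⟩
  let S : Subgroup SL :=
    { carrier := {g | act ρ g v = v}
      one_mem' := by simp [act_one]
      mul_mem' := fun {a b} ha hb => by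
        show act ρ (a * b) v = v
        rw [am, show act ρ b v = v from hb, show act ρ a v = v from ha]
      inv_mem' := fun {a} ha => by
        show act ρ a⁻¹ v = v
        conv_lhs => rw [← (show act ρ a v = v from ha)]
        rw [act_inv_apply ρ trivial] }
  exact diag_induction S (fun i j h a => (hrank i j h).2 a) hd

end Cfsg.Agent.SimpleFacts.SLBlocks
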