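import Cfsg.Agent.SimpleFacts.SLBlocks.Basic

/-!
The rank one subgroups of `SL_n` at neighbouring positions, and the root kernels in the unitriangular
group.
-/

set_option autoImplicit false
set_option linter.unusedSectionVars false
set_option linter.unusedSimpArgs false

open Matrix

namespace Cfsg.Agent.SimpleFacts.SLBlocks

open Cfsg.Agent.AutPSL.Roots

universe u

variable {F : Type u} [Field F] {n : ℕ}

local notation "SL" => Matrix.SpecialLinearGroup (Fin n) F
local notation "M" => Matrix (Fin n) (Fin n) F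
local notation "U" => (unitriSL (n := n) (F := F))
local notation "tr" => Matrix.SpecialLinearGroup.transvection

/-- Two neighbouring positions. -/
def Adj (i j : Fin n) : Prop := (i : ℕ) + 1 = (j : ℕ)

instance {i j : Fin n} : Decidable (Adj i j) := inferInstanceAs (Decidable ((i : ℕ) + 1 = (j : ℕ)))

theorem Adj.lt {i j : Fin n} (h : Adj i j) : i < j := by
  unfold Adj at h; exact Fin.lt_def.2 (by omega)

theorem Adj.ne {i j : Fin n} (h : Adj i j) : i ≠ j := h.lt.ne

/-- The positions as two plus the rest. -/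
noncomputable def split {i j : Fin n} (hij : i ≠ j) : Fin 2 ⊕ {k : Fin n // k ≠ i ∧ k ≠ j} ≃ Fin n :=
  Equiv.ofBijective (Sum.elim ![i, j] Subtype.val) (by
    constructor
    · rintro (a | ⟨a, ha⟩) (b | ⟨b, hb⟩) h
      · fin_cases a <;> fin_cases b <;> simp_all [Ne.symm hij]
      · fin_cases a <;> simp at h <;> subst h <;> simp at hb
      · fin_cases b <;> simp at h <;> subst h <;> simp at ha
      · exact congrArg Sum.inr (Subtype.ext h)
    · intro k
      by_cases h1 : k = i
      · exact ⟨Sum.inl 0, h1.symm⟩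
      · by_cases h2 : k = j
        · exact ⟨Sum.inl 1, h2.symm⟩
        · exact ⟨Sum.inr ⟨k, h1, h2⟩, rfl⟩)

/-- `SL_2` at two positions. -/
noncomputable def emb {i j : Fin n} (hij : i ≠ j) : Matrix.SpecialLinearGroup (Fin 2) F →* SL where
  toFun g := ⟨(Matrix.fromBlocks (g : Matrix (Fin 2) (Fin 2) F) 0 0 1).submatrix (split hij).symm (split hij).symm, by
    rw [Matrix.det_submatrix_equiv_self, Matrix.det_fromBlocks_zero₂₁, g.prop, Matrix.det_one, one_mul]⟩
  map_one' := Subtype.ext (by simp [Matrix.fromBlocks_one])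
  map_mul' g h := Subtype.ext (by
    show _ = _ * _
    rw [Matrix.submatrix_mul_equiv, Matrix.fromBlocks_multiply]
    simp)

theorem emb_apply {i j : Fin n} (hij : i ≠ j) (g : Matrix.SpecialLinearGroup (Fin 2) F) (a b : Fin n) :
    ((emb hij g : SL) : M) a b =
      if a = i ∧ b = i then (g : Matrix (Fin 2) (Fin 2) F) 0 0
      else if a = i ∧ b = j then (g : Matrix (Fin 2) (Fin 2) F) 0 1
      else if a = j ∧ b = i then (g : Matrix (Fin 2) (Fin 2) F) 1 0
      else if a = j ∧ b = j then (g : Matrix (Fin 2) (Fin 2) F) 1 1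
      else if a = b ∧ a ≠ i ∧ a ≠ j then 1 else 0 := by
  obtain ⟨x, rfl⟩ := (split hij).surjective a
  obtain ⟨y, rfl⟩ := (split hij).surjective b
  show Matrix.fromBlocks _ _ _ _ ((split hij).symm _) ((split hij).symm _) = _
  rw [Equiv.symm_apply_apply, Equiv.symm_apply_apply]
  have hval : ∀ z, split hij z = Sum.elim ![i, j] Subtype.val z := fun _ => rfl
  rcases x with a | ⟨a, ha1, ha2⟩ <;> rcases y with b | ⟨b, hb1, hb2⟩
  · fin_cases a <;> fin_cases b <;> simp [hval, hij, Ne.symm hij]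
  · fin_cases a <;> simp [hval, hij, Ne.symm hij, hb1, hb2, Ne.symm hb1, Ne.symm hb2]
  · fin_cases b <;> simp [hval, hij, Ne.symm hij, ha1, ha2, Ne.symm ha1, Ne.symm ha2]
  · simp [hval, ha1, ha2, hb1, hb2, Matrix.one_apply]

/-- `[[0, 1], [-1, 0]]`. -/
def w2 : Matrix.SpecialLinearGroup (Fin 2) F := ⟨!![0, 1; -1, 0], by simp [Matrix.det_fin_two]⟩

/-- `[[1, t], [0, 1]]`. -/
def x2 (t : F) : Matrix.SpecialLinearGroup (Fin 2) F := ⟨!![1, t; 0, 1], by simp [Matrix.det_fin_two]⟩

/-- `[[a, 0], [0, a⁻¹]]`. -/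
def h2 (a : Fˣ) : Matrix.SpecialLinearGroup (Fin 2) F :=
  ⟨!![(a : F), 0; 0, (↑a⁻¹ : F)], by simp [Matrix.det_fin_two]⟩

theorem w2_sq : (w2 : Matrix.SpecialLinearGroup (Fin 2) F) * w2 = h2 (-1) := by
  refine Subtype.ext ?_
  show ((w2 : Matrix.SpecialLinearGroup (Fin 2) F) : Matrix (Fin 2) (Fin 2) F) * _ = _
  ext a b
  fin_cases a <;> fin_cases b <;> simp [w2, h2, Matrix.mul_apply, Fin.sum_univ_two]

theorem w2_x2 (t : Fˣ) :
    w2 * x2 (t : F) * w2 = x2 (-(↑t⁻¹ : F)) * w2 * h2 (-t) * x2 (-(↑t⁻¹ : F)) := by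
  refine Subtype.ext ?_
  show (w2 : Matrix.SpecialLinearGroup (Fin 2) F).1 * (x2 (t : F)).1 * (w2 : Matrix.SpecialLinearGroup (Fin 2) F).1 =
    (x2 (-(↑t⁻¹ : F))).1 * (w2 : Matrix.SpecialLinearGroup (Fin 2) F).1 * (h2 (-t)).1 * (x2 (-(↑t⁻¹ : F))).1
  ext a b
  fin_cases a <;> fin_cases b <;> simp [w2, h2, x2, Matrix.mul_apply, Fin.sum_univ_two, t.ne_zero]

variable {i j : Fin n}

theorem emb_x2 (hij : i ≠ j) (t : F) : emb hij (x2 t) = (tr hij t : SL) := by
  refine Subtype.ext (Matrix.ext fun a b => ?_)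
  show ((emb hij (x2 t) : SL) : M) a b = ((tr hij t : SL) : M) a b
  rw [emb_apply, tr_apply]
  simp only [x2, Matrix.cons_val', Matrix.cons_val_zero, Matrix.cons_val_one, Matrix.of_apply,
    Matrix.cons_val_fin_one]
  by_cases h1 : a = i <;> by_cases h2 : b = j <;> by_cases h3 : a = j <;> by_cases h4 : b = i <;>
    simp_all [Ne.symm hij] <;> grind

theorem isMono_w (hij : i ≠ j) : IsMono (emb hij w2 : SL) (Equiv.swap i j) := by
  intro a b hab
  rw [emb_apply]
  simp only [w2, Matrix.cons_val', Matrix.cons_val_zero, Matrix.cons_val_one, Matrix.of_apply,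
    Matrix.cons_val_fin_one]
  rw [Equiv.swap_apply_def] at hab
  grind

theorem isMono_h (hij : i ≠ j) (a : Fˣ) : IsMono (emb hij (h2 a) : SL) 1 := by
  intro c d hcd
  rw [emb_apply]
  simp only [h2, Matrix.cons_val', Matrix.cons_val_zero, Matrix.cons_val_one, Matrix.of_apply,
    Matrix.cons_val_fin_one]
  simp only [Equiv.Perm.one_apply] at hcd
  grind

theorem ent_h (hij : i ≠ j) (a : Fˣ) (k : Fin n) :
    ent (emb hij (h2 a) : SL) 1 k = if k = i then (a : F) else if k = j then (↑a⁻¹ : F) else 1 := by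
  rw [ent, Equiv.Perm.one_apply, emb_apply]
  simp only [h2, Matrix.cons_val', Matrix.cons_val_zero, Matrix.cons_val_one, Matrix.of_apply,
    Matrix.cons_val_fin_one]
  grind

/-! ### Diagonal elements -/

theorem prod_ent_one {d : SL} (hd : IsMono d 1) : ∏ k, ent d 1 k = 1 := by
  have h : (d : M) = Matrix.diagonal (ent d 1) := Matrix.ext fun a b => by
    rw [hd.apply, Matrix.diagonal_apply]
    simp only [Equiv.Perm.one_apply]
    by_cases h : a = b <;> simp [h]
  have := d.prop
  rwa [h, Matrix.det_diagonal] at this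

theorem eq_one_of_ent {d : SL} (hd : IsMono d 1) (h : ∀ k, ent d 1 k = 1) : d = 1 :=
  Subtype.ext (Matrix.ext fun a b => by
    rw [hd.apply, h, Matrix.SpecialLinearGroup.coe_one, Matrix.one_apply]
    rfl)

theorem diag_induction (S : Subgroup SL) (hS : ∀ (i j : Fin n) (h : Adj i j) (a : Fˣ), emb h.ne (h2 a) ∈ S)
    {d : SL} (hd : IsMono d 1) : d ∈ S := by
  suffices key : ∀ k : ℕ, ∀ d : SL, IsMono d 1 → (∀ l : Fin n, (l : ℕ) + k < n → ent d 1 l = 1) → d ∈ S by
    exact key n d hd fun l hl => absurd hl (by omega)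
  intro k
  induction k with
  | zero =>
    intro d hd h
    rw [eq_one_of_ent hd fun l => h l (by simp)]
    exact one_mem S
  | succ k ih =>
    intro d hd h
    rcases le_or_gt n k with hnk | hnk
    · exact ih d hd fun l hl => absurd hl (by omega)
    let i : Fin n := ⟨n - (k + 1), by omega⟩
    rcases Nat.eq_zero_or_pos k with hk | hk
    · subst hk
      have : ∀ l, l ≠ i → ent d 1 l = 1 := fun l hl => h l (by
        have : (l : ℕ) ≠ n - 1 := fun e => hl (Fin.ext e)
        omega)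
      refine ih d hd fun l _ => ?_
      by_cases hl : l = i
      · rw [hl]
        have h1 := prod_ent_one hd
        rwa [Finset.prod_eq_single i (fun b _ hb => this b hb) (by simp)] at h1
      · exact this l hl
    let j : Fin n := ⟨n - k, by omega⟩
    have hij : Adj i j := by unfold Adj; simp only [i, j]; omega
    let a : Fˣ := (Units.mk0 _ (hd.ent_ne i))⁻¹
    have hmul : IsMono (d * emb hij.ne (h2 a)) 1 := by simpa using hd.mul (isMono_h hij.ne a)
    have hent : ∀ l, ent (d * emb hij.ne (h2 a)) 1 l = ent d 1 l * ent (emb hij.ne (h2 a) : SL) 1 l := by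
      intro l
      have := hd.mul_apply (emb hij.ne (h2 a)) l l
      simp only [Equiv.Perm.one_apply] at this
      exact this
    have := ih _ hmul fun l hl => by
      rw [hent, ent_h]
      by_cases hli : l = i
      · rw [if_pos hli, hli]
        simp [a, hd.ent_ne i]
      · have h1 : (l : ℕ) ≠ n - (k + 1) := fun e => hli (Fin.ext e)
        rw [if_neg hli, if_neg fun e => by rw [e] at hl; simp [j] at hl; omega, mul_one]
        exact h l (by omega)
    exact (Subgroup.mul_mem_cancel_right S (hS i j hij a)).1 this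

/-! ### Root kernels -/

variable [Fintype F]

theorem mul_apply_adj {u v : SL} (hu : u ∈ U) (hv : v ∈ U) (h : Adj i j) :
    ((u * v : SL) : M) i j = (u : M) i j + (v : M) i j := by
  rw [Matrix.SpecialLinearGroup.coe_mul, Matrix.mul_apply, Finset.sum_eq_add i j h.ne]
  · rw [hu.2, hv.2, one_mul, mul_one, add_comm]
  · intro c _ hc
    rcases lt_trichotomy c i with h1 | h1 | h1
    · rw [hu.1 _ _ h1, zero_mul]
    · exact absurd h1 hc.1
    · rw [hv.1 c j, mul_zero]
      have : (c : ℕ) ≠ j := fun e => hc.2 (Fin.ext e)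
      have : (i : ℕ) < c := h1
      have : (i : ℕ) + 1 = j := h
      exact Fin.lt_def.2 (by omega)
  all_goals simp

/-- The kernel in `U` of the entry at `(i, j)`. -/
def rootKer (h : Adj i j) : Subgroup SL where
  carrier := {z | z ∈ U ∧ (z : M) i j = 0}
  one_mem' := ⟨one_mem _, Matrix.one_apply_ne h.ne⟩
  mul_mem' := fun {a b} ha hb => ⟨mul_mem ha.1 hb.1, by rw [mul_apply_adj ha.1 hb.1 h, ha.2, hb.2, add_zero]⟩
  inv_mem' := fun {a} ha => ⟨inv_mem ha.1, by
    have := mul_apply_adj ha.1 (inv_mem ha.1) h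
    rw [mul_inv_cancel, Matrix.SpecialLinearGroup.coe_one, Matrix.one_apply_ne h.ne, ha.2,
      zero_add] at this
    exact this.symm⟩

theorem rootKer_le (h : Adj i j) : rootKer (F := F) h ≤ U := fun _ hz => hz.1

theorem tr_conj_rootKer (h : Adj i j) (t : F) {z : SL} (hz : z ∈ rootKer h) :
    (tr h.ne t : SL) * z * (tr h.ne t)⁻¹ ∈ rootKer h := by
  have hx : (tr h.ne t : SL) ∈ U := tr_mem_U _ _ h.lt
  refine ⟨mul_mem (mul_mem hx hz.1) (inv_mem hx), ?_⟩
  have h0 := mul_apply_adj hx (inv_mem hx) h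
  rw [mul_inv_cancel, Matrix.SpecialLinearGroup.coe_one, Matrix.one_apply_ne h.ne] at h0
  rw [mul_apply_adj (mul_mem hx hz.1) (inv_mem hx) h, mul_apply_adj hx hz.1 h, hz.2, add_zero, ← h0]

theorem adj_swap_lt (h : Adj i j) {a b : Fin n} (hab : a < b) (hne : ¬ (a = i ∧ b = j)) :
    Equiv.swap i j a < Equiv.swap i j b := by
  have : (i : ℕ) + 1 = j := h
  simp only [Equiv.swap_apply_def, Fin.ext_iff, Fin.lt_def, apply_ite Fin.val] at *
  split_ifs <;> omega

theorem w_conj_rootKer (h : Adj i j) {z : SL} (hz : z ∈ rootKer h) :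
    (emb h.ne w2 : SL) * z * (emb h.ne w2)⁻¹ ∈ rootKer h := by
  have hm := isMono_w (F := F) h.ne
  refine ⟨⟨fun c d hdc => ?_, fun c => ?_⟩, ?_⟩
  · obtain ⟨a, rfl⟩ := (Equiv.swap i j).surjective c
    obtain ⟨b, rfl⟩ := (Equiv.swap i j).surjective d
    have h3 := hm.conj_apply z a b
    have h4 : (z : M) a b = 0 := by
      rcases lt_trichotomy a b with h1 | h1 | h1
      · by_cases h2 : a = i ∧ b = j
        · rw [h2.1, h2.2]; exact hz.2
        · exact absurd (adj_swap_lt h h1 h2) (lt_asymm hdc)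
      · exact absurd (congrArg _ h1) hdc.ne'
      · exact hz.1.1 _ _ h1
    rw [h4, mul_zero] at h3
    exact (mul_eq_zero.1 h3).resolve_right (hm.ent_ne b)
  · obtain ⟨a, rfl⟩ := (Equiv.swap i j).surjective c
    have h3 := hm.conj_apply z a a
    rw [hz.1.2, mul_one] at h3
    exact mul_right_cancel₀ (hm.ent_ne a) (h3.trans (one_mul _).symm)
  · have h3 := hm.conj_apply z j i
    rw [Equiv.swap_apply_right, Equiv.swap_apply_left, hz.1.1 _ _ h.lt, mul_zero] at h3
    exact (mul_eq_zero.1 h3).resolve_right (hm.ent_ne i)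

theorem card_U_eq (h : Adj i j) :
    Nat.card U = Nat.card ↥(rootKer (F := F) h) * Fintype.card F := by
  have hx : ∀ t : F, (tr h.ne t : SL) ∈ U := fun t => tr_mem_U _ _ h.lt
  have hent : ∀ (z : SL) (_ : z ∈ U) (t : F), ((z * tr h.ne t : SL) : M) i j = (z : M) i j + t :=
    fun z hz t => by
      rw [mul_apply_adj hz (hx t) h, tr_apply, if_neg h.ne, zero_add, if_pos ⟨rfl, rfl⟩]
  rw [← Nat.card_eq_fintype_card, ← Nat.card_prod]
  symm
  refine Nat.card_congr (Equiv.ofBijective
    (fun p => (⟨p.1.1 * tr h.ne p.2, mul_mem p.1.2.1 (hx _)⟩ : ↥U)) ⟨?_, ?_⟩)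
  · rintro ⟨⟨a, ha⟩, s⟩ ⟨⟨b, hb⟩, t⟩ e
    have e' : a * tr h.ne s = b * tr h.ne t := congrArg Subtype.val e
    have h1 := hent a ha.1 s
    rw [e', hent b hb.1 t, ha.2, hb.2, zero_add, zero_add] at h1
    subst h1
    obtain rfl := mul_right_cancel e'
    rfl
  · rintro ⟨g, hg⟩
    refine ⟨(⟨g * tr h.ne (-(g : M) i j), mul_mem hg (hx _), ?_⟩, (g : M) i j), Subtype.ext ?_⟩
    · rw [hent g hg, add_neg_cancel]
    · show g * tr h.ne _ * tr h.ne _ = g
      have h12 : x2 (-(g : M) i j) * x2 ((g : M) i j) = 1 := by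
        refine Subtype.ext ?_
        show (x2 (-(g : M) i j)).1 * (x2 ((g : M) i j)).1 = 1
        ext a b
        fin_cases a <;> fin_cases b <;> simp [x2, Matrix.mul_apply, Fin.sum_univ_two]
      have e : ∀ t : F, (tr h.ne t : SL) = emb h.ne (x2 t) := fun t => (emb_x2 h.ne t).symm
      simp only [e]
      rw [mul_assoc, ← map_mul, h12, map_one, mul_one]

end Cfsg.Agent.SimpleFacts.SLBlocks
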