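import Cfsg.Agent.SimpleFacts.SLBlocks.DefectZero
import Cfsg.Agent.BlockCharsA.DefectZeroVanish
import Cfsg.Agent.Lib.Blocks.Defect

/-!
`SL_n(q)` has at most one irreducible character of degree divisible by `q^(n(n-1)/2)`.
-/

set_option autoImplicit false
set_option linter.unusedSectionVars false
set_option linter.style.haveILetI false

open Matrix

namespace Cfsg.Agent.SimpleFacts.SLBlocks

open Cfsg.Agent.AutPSL.Roots Cfsg.Agent.SimpleFacts.SubgroupAverage

universe u

variable {F : Type u} [Field F] [Fintype F] {n : ℕ}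

local notation "SL" => Matrix.SpecialLinearGroup (Fin n) F
local notation "M" => Matrix (Fin n) (Fin n) F
local notation "U" => (unitriSL (n := n) (F := F))
local notation "tr" => Matrix.SpecialLinearGroup.transvection

variable [Fintype ↥(unitriSL (n := n) (F := F))]
variable {V : Type*} [AddCommGroup V] [Module ℂ V] [FiniteDimensional ℂ V]
  {ρ : Representation ℂ ↥(⊤ : Subgroup (Matrix.SpecialLinearGroup (Fin n) F)) V}
variable {V' : Type*} [AddCommGroup V'] [Module ℂ V'] [FiniteDimensional ℂ V']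
  {ρ' : Representation ℂ ↥(⊤ : Subgroup (Matrix.SpecialLinearGroup (Fin n) F)) V'}

theorem Line.phi_unique (L : Line ρ) {x : V} {c : ℂ}
    (h : avg ρ U (fun _ => (1 : ℂ)) x = c • L.v) : L.φ x = c :=
  smul_left_injective ℂ L.v_ne ((L.proj x).symm.trans h)

/-- The projection as a linear form. -/
noncomputable def Line.lin (L : Line ρ) : V →ₗ[ℂ] ℂ where
  toFun := L.φ
  map_add' x y := L.phi_unique (by rw [map_add, L.proj, L.proj, add_smul])
  map_smul' c x := L.phi_unique (by rw [map_smul, L.proj, smul_smul]; rfl)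

theorem Line.phi_v (L : Line ρ) : L.φ L.v = 1 :=
  L.phi_unique (by
    rw [one_smul]
    exact avg_eq_self ρ rfl (fun _ _ _ _ => (one_mul 1).symm) fun g hg => by rw [L.fix g hg, one_smul])

theorem Line.phi_U (L : Line ρ) {g : SL} (hg : g ∈ U) (x : V) : L.φ (act ρ g x) = L.φ x :=
  L.phi_unique (by
    rw [avg_apply_act ρ le_top rfl (fun _ _ _ _ => (one_mul 1).symm) hg, one_smul, L.proj])

/-- The recursion along a neighbouring pair. -/
theorem Line.phi_step (L : Line ρ) {i j : Fin n} (h : Adj i j) {m : SL} {π : Equiv.Perm (Fin n)}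
    (hm : IsMono m π) (hπ : π⁻¹ i < π⁻¹ j) :
    L.φ (act ρ (emb h.ne w2 * m) L.v) = L.φ (act ρ (emb h.ne w2) L.v) * L.φ (act ρ m L.v) := by
  classical
  haveI : Fintype ↥(rootKer (F := F) h) := Fintype.ofFinite _
  set z := act ρ m L.v
  set y := avg ρ (rootKer h) (fun _ => (1 : ℂ)) z with hy
  have hyfix : ∀ g ∈ U, act ρ g y = y := by
    have hx : ∀ t, act ρ (tr h.ne t) y = y := fun t => by
      rw [hy, act_avg_comm ρ _ (fun w hw => tr_conj_rootKer h t hw), tr_fix ρ L.fix hm h.ne hπ]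
    intro g hg
    have hk : g * tr h.ne (-(g : M) i j) ∈ rootKer h := by
      refine ⟨mul_mem hg (tr_mem_U _ _ h.lt), ?_⟩
      rw [mul_apply_adj hg (tr_mem_U _ _ h.lt) h, tr_apply, if_neg h.ne, zero_add, if_pos ⟨rfl, rfl⟩,
        add_neg_cancel]
    have : g = (g * tr h.ne (-(g : M) i j)) * (tr h.ne (-(g : M) i j))⁻¹ := by group
    rw [this, am]
    have h1 : act ρ (tr h.ne (-(g : M) i j))⁻¹ y = y := by
      conv_lhs => rw [← hx (-(g : M) i j)]
      rw [act_inv_apply ρ trivial]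
    rw [h1, hy, act_avg_apply ρ le_top rfl (fun _ _ _ _ => (one_mul 1).symm) hk, one_smul]
  have hyv : y = L.φ z • L.v := by
    rw [← L.proj z, ← avg_avg ρ U (rootKer h) (rootKer_le h) z, ← hy]
    exact (avg_eq_self ρ rfl (fun _ _ _ _ => (one_mul 1).symm) fun g hg => by
      rw [hyfix g hg, one_smul]).symm
  refine L.phi_unique ?_
  rw [am, ← avg_avg ρ U (rootKer h) (rootKer_le h),
    ← act_avg_comm ρ _ (fun w hw => w_conj_rootKer h hw), ← hy, hyv, map_smul, map_smul, L.proj,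
    smul_smul, mul_comm]

theorem weight_lt {i j : Fin n} (h : Adj i j) {π : Equiv.Perm (Fin n)} (hd : π⁻¹ j < π⁻¹ i) :
    ∑ a : Fin n, (a : ℕ) * (π a : ℕ) < ∑ a : Fin n, (a : ℕ) * ((Equiv.swap i j * π) a : ℕ) := by
  classical
  have hne : π⁻¹ i ≠ π⁻¹ j := hd.ne'
  rw [← Finset.add_sum_erase _ _ (Finset.mem_univ (π⁻¹ i)),
    ← Finset.add_sum_erase _ _ (Finset.mem_erase.2 ⟨hne.symm, Finset.mem_univ _⟩),
    ← Finset.add_sum_erase Finset.univ (fun a : Fin n => (a : ℕ) * ((Equiv.swap i j * π) a : ℕ))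
      (Finset.mem_univ (π⁻¹ i)),
    ← Finset.add_sum_erase (Finset.univ.erase (π⁻¹ i))
      (fun a : Fin n => (a : ℕ) * ((Equiv.swap i j * π) a : ℕ))
      (Finset.mem_erase.2 ⟨hne.symm, Finset.mem_univ _⟩)]
  have hrest : ∀ a ∈ (Finset.univ.erase (π⁻¹ i)).erase (π⁻¹ j),
      (a : ℕ) * ((Equiv.swap i j * π) a : ℕ) = (a : ℕ) * (π a : ℕ) := by
    intro a ha
    simp only [Finset.mem_erase] at ha
    rw [Equiv.Perm.mul_apply, Equiv.swap_apply_of_ne_of_ne]
    · exact fun e => ha.2.1 (by simp [← e])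
    · exact fun e => ha.1 (by simp [← e])
  rw [Finset.sum_congr rfl hrest]
  have e1 : π (π⁻¹ i) = i := π.apply_symm_apply i
  have e2 : π (π⁻¹ j) = j := π.apply_symm_apply j
  simp only [Equiv.Perm.mul_apply, e1, e2, Equiv.swap_apply_left, Equiv.swap_apply_right]
  have h1 : (i : ℕ) + 1 = j := h
  have h2 : ((π⁻¹ j : Fin n) : ℕ) < (π⁻¹ i : Fin n) := hd
  rw [← h1]
  nlinarith [h2]

theorem phi_mono (L : Line ρ) (L' : Line ρ') {m : SL} {π : Equiv.Perm (Fin n)} (hm : IsMono m π) :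
    L.φ (act ρ m L.v) = L'.φ (act ρ' m L'.v) := by
  classical
  suffices key : ∀ k : ℕ, ∀ (m : SL) (π : Equiv.Perm (Fin n)), IsMono m π →
      n * n * n - ∑ a : Fin n, (a : ℕ) * (π a : ℕ) = k →
      L.φ (act ρ m L.v) = L'.φ (act ρ' m L'.v) from key _ m π hm rfl
  intro k
  induction k using Nat.strong_induction_on with
  | _ k ih =>
    intro m π hm hk
    by_cases hπ : π = 1
    · subst hπ
      rw [L.diag m hm, L'.diag m hm, L.phi_v, L'.phi_v]
    obtain ⟨i, j, h, hd⟩ := exists_descent hπ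
    have hm' : IsMono ((emb h.ne w2)⁻¹ * m) (Equiv.swap i j * π) := by
      simpa using (isMono_w h.ne).inv.mul hm
    have hlt : (Equiv.swap i j * π)⁻¹ i < (Equiv.swap i j * π)⁻¹ j := by
      simpa [_root_.mul_inv_rev] using hd
    have hbound : ∀ σ : Equiv.Perm (Fin n), ∑ a : Fin n, (a : ℕ) * (σ a : ℕ) ≤ n * n * n := fun σ => by
      refine (Finset.sum_le_card_nsmul _ _ (n * n) fun a _ => Nat.mul_le_mul a.isLt.le (σ a).isLt.le).trans ?_
      simp [mul_assoc]
    have := weight_lt h hd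
    have hk' := ih _ (by have := hbound (Equiv.swap i j * π); omega) _ _ hm' rfl
    rw [show m = emb h.ne w2 * ((emb h.ne w2)⁻¹ * m) by group, L.phi_step h hm' hlt,
      L'.phi_step h hm' hlt, L.rank_one i j h, L'.rank_one i j h, hk']

theorem phi_eq (L : Line ρ) (L' : Line ρ') (g : SL) :
    L.φ (act ρ g L.v) = L'.φ (act ρ' g L'.v) := by
  obtain ⟨g₁, hg₁, π, m, hm, g₂, hg₂, rfl⟩ := exists_bruhat g
  rw [am, L.fix _ hg₂, am, L.phi_U hg₁, am, L'.fix _ hg₂, am, L'.phi_U hg₁]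
  exact phi_mono L L' hm

/-- The character is the average of the coefficient over conjugates. -/
theorem trace_formula [ρ.IsIrreducible] [Fintype SL] (L : Line ρ) (g : SL) :
    (Nat.card SL : ℂ) / (Module.finrank ℂ V : ℂ) * LinearMap.trace ℂ V (act ρ g) =
      ∑ x : SL, L.φ (act ρ (x * g * x⁻¹) L.v) := by
  classical
  haveI := Cfsg.Agent.Characters.nontrivial_of_isIrreducible ρ
  obtain ⟨e, he⟩ : ∃ e : Module.End ℂ V, e = L.lin.smulRight L.v := ⟨_, rfl⟩
  have htr : ∀ b : Module.End ℂ V, LinearMap.trace ℂ V (e * b) = L.φ (b L.v) := by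
    intro b
    have : e * b = (L.lin.comp b).smulRight L.v := by
      ext x; rw [he]; rfl
    rw [this, LinearMap.trace_smulRight]
    rfl
  set A : Module.End ℂ V := ∑ x : SL, act ρ x⁻¹ * e * act ρ x with hA
  have hcomm : ∀ y : SL, A * act ρ y = act ρ y * A := by
    intro y
    rw [hA, Finset.sum_mul, Finset.mul_sum]
    refine Fintype.sum_equiv (Equiv.mulRight y) _ _ fun x => ?_
    simp only [Equiv.coe_mulRight, mul_assoc]
    rw [← act_mul ρ (trivial : x ∈ (⊤ : Subgroup SL)) (trivial : y ∈ (⊤ : Subgroup SL)),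
      _root_.mul_inv_rev, ← mul_assoc (act ρ y),
      ← act_mul ρ (trivial : y ∈ (⊤ : Subgroup SL)) trivial, mul_inv_cancel_left]
  obtain ⟨μ, hμ⟩ := Module.End.exists_eigenvalue A
  have hAμ : A = μ • 1 := by
    have htop : Module.End.eigenspace A μ = ⊤ := by
      refine (((Cfsg.Agent.Characters.isIrreducible_iff ρ).1 inferInstance).2 _ fun y x hx => ?_).resolve_left hμ
      rw [Module.End.mem_eigenspace_iff] at hx ⊢
      rw [show ρ y = act ρ (y : SL) from (act_eq ρ y.2).symm, ← Module.End.mul_apply, hcomm,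
        Module.End.mul_apply, hx, map_smul]
    refine LinearMap.ext fun x => ?_
    rw [Module.End.mem_eigenspace_iff.1 (htop ▸ Submodule.mem_top (x := x))]
    rfl
  have hsum : ∀ h : SL, LinearMap.trace ℂ V (A * act ρ h) = ∑ x : SL, L.φ (act ρ (x * h * x⁻¹) L.v) := by
    intro h
    rw [hA, Finset.sum_mul, map_sum]
    refine Finset.sum_congr rfl fun x _ => ?_
    rw [mul_assoc, mul_assoc, LinearMap.trace_mul_comm, mul_assoc, htr, ← act_mul ρ trivial trivial,
      ← act_mul ρ trivial trivial]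
  have h1 : μ * (Module.finrank ℂ V : ℂ) = (Nat.card SL : ℂ) := by
    have := hsum 1
    simp only [mul_one, mul_inv_cancel, act_one, Module.End.one_apply, L.phi_v, Finset.sum_const,
      Finset.card_univ, nsmul_eq_mul, hAμ, map_smul, LinearMap.trace_one, smul_eq_mul,
      ← Nat.card_eq_fintype_card] at this
    exact this
  have h2 := hsum g
  rw [hAμ, smul_mul_assoc, one_mul, map_smul, smul_eq_mul] at h2
  rw [← h2, ← h1, mul_div_assoc, div_self (Nat.cast_ne_zero.2 (Module.finrank_pos).ne'), mul_one]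

theorem Line.trace_diag [ρ.IsIrreducible] (L : Line ρ) {z : SL} (hz : IsMono z 1)
    (hc : ∀ g : SL, z * g = g * z) : act ρ z = 1 := by
  have h : ∀ x ∈ Submodule.span ℂ {w : V | ∃ g ∈ (⊤ : Subgroup SL), w = act ρ g L.v}, act ρ z x = x := by
    intro x hx
    induction hx using Submodule.span_induction with
    | mem x hx =>
      obtain ⟨g, -, rfl⟩ := hx
      rw [← am, hc, am, L.diag z hz]
    | zero => simp
    | add x y _ _ hx hy => rw [map_add, hx, hy]
    | smul c x _ hx => rw [map_smul, hx]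
  refine LinearMap.ext fun x => h x ?_
  rw [span_orbit ρ L.v_ne]
  exact Submodule.mem_top

omit [Fintype ↥(unitriSL (n := n) (F := F))] in
/-- An irreducible character of degree divisible by `|U|` comes with a fixed line. -/
theorem exists_rep {p : ℕ} [Fact p.Prime] [CharP F p] (hn : 1 ≤ n)
    [Fintype ↥(unitriSL (n := n) (F := F))]
    (χ : Cfsg.IrrCharacter SL) (hdeg : Nat.card ↥U ∣ Cfsg.charDegree (χ : SL → ℂ)) :
    ∃ (d : ℕ) (ρ : Representation ℂ ↥(⊤ : Subgroup SL) (Fin d → ℂ)), ρ.IsIrreducible ∧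
      Nonempty (Line ρ) ∧ ∀ g : SL, (χ : SL → ℂ) g = LinearMap.trace ℂ (Fin d → ℂ) (act ρ g) := by
  classical
  obtain ⟨d, σ, hσ, hσc⟩ := χ.2
  let ρ : Representation ℂ ↥(⊤ : Subgroup SL) (Fin d → ℂ) := σ.comp (⊤ : Subgroup SL).subtype
  have hρ : ρ.IsIrreducible := by
    haveI := hσ
    rw [Cfsg.Agent.Characters.isIrreducible_iff]
    obtain ⟨h1, h2⟩ := (Cfsg.Agent.Characters.isIrreducible_iff σ).1 hσ
    exact ⟨h1, fun W hW => h2 W fun g => hW ⟨g, trivial⟩⟩
  have hval : ∀ g : SL, (χ : SL → ℂ) g = LinearMap.trace ℂ (Fin d → ℂ) (act ρ g) := fun g => by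
    rw [← hσc, act_eq ρ (Subgroup.mem_top g)]
    rfl
  have he : Cfsg.charDegree (χ : SL → ℂ) = Module.finrank ℂ (Fin d → ℂ) := by
    apply Nat.cast_injective (R := ℂ)
    rw [Cfsg.Agent.Blocks.charDegree_cast χ, ← hσc]
    exact σ.char_one
  obtain ⟨P, hP⟩ := exists_sylow (F := F) p hn
  have hcard : Nat.card ↥U = p ^ (Nat.card SL).factorization p := hP ▸ P.card_eq_multiplicity
  haveI := hρ
  refine ⟨d, ρ, hρ, exists_line ρ (he ▸ hdeg) (fun g hg hne => ?_), hval⟩
  rw [← hval]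
  refine Cfsg.Agent.BlockCharsA.DefectZeroVanish.eq_zero_of_singular (p := p) Fact.out χ
    (hcard ▸ hdeg) ?_
  obtain ⟨k, hk⟩ := IsPGroup.iff_orderOf.1 P.isPGroup' ⟨g, hP.symm ▸ hg⟩
  rw [Subgroup.orderOf_mk] at hk
  rw [hk]
  refine dvd_pow_self p fun e => hne ?_
  rw [e, pow_zero] at hk
  exact orderOf_eq_one_iff.1 hk

omit [Fintype ↥(unitriSL (n := n) (F := F))] in
theorem steinberg_facts {p : ℕ} [Fact p.Prime] [CharP F p] (hn : 1 ≤ n)
    (χ : Cfsg.IrrCharacter SL) (hdeg : Nat.card ↥U ∣ Cfsg.charDegree (χ : SL → ℂ)) :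
    Cfsg.charDegree (χ : SL → ℂ) = Nat.card ↥U ∧
      (∀ χ' : Cfsg.IrrCharacter SL, Nat.card ↥U ∣ Cfsg.charDegree (χ' : SL → ℂ) → χ' = χ) ∧
      ∀ z : SL, IsMono z 1 → (∀ g, z * g = g * z) → (χ : SL → ℂ) z = (χ : SL → ℂ) 1 := by
  classical
  haveI : Fintype ↥U := Fintype.ofFinite _
  haveI : Fintype SL := Fintype.ofFinite _
  obtain ⟨d, ρ, hρ, ⟨L⟩, hval⟩ := exists_rep (p := p) hn χ hdeg
  haveI := hρ
  refine ⟨?_, fun χ' hdeg' => ?_, fun z hz hc => ?_⟩
  · apply Nat.cast_injective (R := ℂ)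
    rw [Cfsg.Agent.Blocks.charDegree_cast χ, hval, act_one, LinearMap.trace_one, L.dim]
  · obtain ⟨d', ρ', hρ', ⟨L'⟩, hval'⟩ := exists_rep (p := p) hn χ' hdeg'
    haveI := hρ'
    refine Subtype.ext (funext fun g => ?_)
    have h1 := trace_formula L g
    have h2 := trace_formula L' g
    rw [L.dim, ← hval] at h1
    rw [L'.dim, ← hval', Finset.sum_congr rfl fun x _ => phi_eq L' L (x * g * x⁻¹), ← h1] at h2
    exact mul_left_cancel₀ (div_ne_zero (Nat.cast_ne_zero.2 Nat.card_pos.ne')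
      (Nat.cast_ne_zero.2 Nat.card_pos.ne')) h2
  · rw [hval, hval, L.trace_diag hz hc, act_one]

end Cfsg.Agent.SimpleFacts.SLBlocks
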